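import Cfsg.Agent.Lib.SuzRankThree.Els

/-!
The centralisers of the elements of order 7 and 6 in the stabiliser of two adjacent points.
-/
set_option autoImplicit false
set_option maxRecDepth 8000

namespace CfsgLib.SuzRankThree

open CfsgLib.Presented CfsgLib.Presented.Vec CfsgLib.OutSuz
open CfsgLib.Presented.SuzCosets (phi phi_ev rep_valid ev H)
open CfsgLib.Presented.SuzCert (rep)
open CfsgLib.Presented.SuzOrder (phi_injective)

/-- `π` fixes the point of the row -/
def Fixes (π : Pm) (r : Row) : Prop :=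
  ∃ h : rowOK r = true, π ⟨r.1, rowOK_lt h⟩ = ⟨r.1, rowOK_lt h⟩

/-- each new point is determined by the earlier rows -/
noncomputable def chainPart : List Row → List Row → Bool
  | _, [] => true
  | k, r :: l => rowOK r && Nat.beq (profileMask r.1 k) (one1 r.1) && chainPart (r :: k) l

theorem chainPart_fix {π : Pm} (hπ : Pres π) : ∀ {l k : List Row}, chainPart k l = true →
    (∀ r ∈ k, Fixes π r) → ∀ r ∈ l.reverse ++ k, Fixes π r
  | [], k, _, hk => by simpa using hk
  | r :: l, k, h, hk => by
    simp only [chainPart, Bool.and_eq_true] at h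
    obtain ⟨⟨h1, h2⟩, h3⟩ := h
    have := chainPart_fix hπ h3 (fun s hs => by
      rcases List.mem_cons.1 hs with rfl | hs
      · refine ⟨h1, Fin.ext ?_⟩
        have hm : (profileMask s.1 k).testBit (π ⟨s.1, rowOK_lt h1⟩) = true :=
          profileMask_mem fun t ht => by
            obtain ⟨e1, e2⟩ := hk t ht
            exact row_inv hπ e1 e2 ⟨s.1, rowOK_lt h1⟩
        rw [Nat.eq_of_beq_eq_true h2, testBit_one1, decide_eq_true_eq] at hm
        exact hm
      · exact hk s hs)
    simpa using this

/-- the starting rows are `0`, `47` and translates of `v` -/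
noncomputable def init2 (l : List Stage) (v n : ℕ) (rows : List Row) : Bool :=
  rows.all fun r => rowOK r &&
    (Nat.beq r.1 0 || Nat.beq r.1 47 || (List.range n).any fun i => sendsB (netPow l i) v r.1)

theorem init2_fix {π B : Pm} {l : List Stage} {v : Fin rep.N} {n : ℕ} {rows : List Row}
    (hl : NetOf l B) (hc : π * B = B * π) (h0 : π p0 = p0) (h47 : π q47 = q47) (hv : π v = v)
    (hi : init2 l v n rows = true) : ∀ r ∈ rows, Fixes π r := by
  intro r hr
  simp only [init2, List.all_eq_true, Bool.and_eq_true, Bool.or_eq_true, List.any_eq_true,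
    List.mem_range] at hi
  obtain ⟨h1, h2⟩ := hi r hr
  refine ⟨h1, ?_⟩
  rcases h2 with (h2 | h2) | ⟨i, -, h2⟩
  · rw [show (⟨r.1, rowOK_lt h1⟩ : Fin rep.N) = p0 from Fin.ext (Nat.eq_of_beq_eq_true h2), h0]
  · rw [show (⟨r.1, rowOK_lt h1⟩ : Fin rep.N) = q47 from Fin.ext (Nat.eq_of_beq_eq_true h2), h47]
  · have e := (hl.pow i).sends (y := v) (x := ⟨r.1, rowOK_lt h1⟩) h2
    have hci : π * B ^ i = B ^ i * π := (Commute.pow_right (show Commute π B from hc) i).eq
    rw [← e, ← Equiv.Perm.mul_apply, hci, Equiv.Perm.mul_apply, hv]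

/-- an automorphism commuting with `B` and fixing two more points is `1` or the given one -/
theorem pinTwo {π τ B : Pm} {l : List Stage} {v w w' : Fin rep.N} {n : ℕ} {rows steps rest : List Row}
    {pw : Row} (hπ : Pres π) (hl : NetOf l B) (hc : π * B = B * π) (h0 : π p0 = p0) (h47 : π q47 = q47)
    (hv : π v = v) (hτ : Pres τ) (hτc : τ * B = B * τ) (hτ0 : τ p0 = p0) (hτ47 : τ q47 = q47)
    (hτv : τ v = v) (hw : τ w = w')
    (h : (init2 l v n rows && chainPart rows steps && Nat.beq pw.1 w && rowOK pw &&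
      Nat.beq (profileMask w (steps.reverse ++ rows)) (Nat.lor (one1 w) (one1 w')) &&
      chainOK (pw :: (steps.reverse ++ rows)) rest) = true) : π = 1 ∨ π = τ := by
  simp only [Bool.and_eq_true] at h
  obtain ⟨⟨⟨⟨⟨hi, hs⟩, hpw⟩, hok⟩, hprof⟩, hrest⟩ := h
  have hfix := chainPart_fix hπ hs (init2_fix hl hc h0 h47 hv hi)
  have hfixτ := chainPart_fix hτ hs (init2_fix hl hτc hτ0 hτ47 hτv hi)
  have hwe : (⟨pw.1, rowOK_lt hok⟩ : Fin rep.N) = w := Fin.ext (Nat.eq_of_beq_eq_true hpw)
  have hb : (profileMask w (steps.reverse ++ rows)).testBit (π w) = true :=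
    profileMask_mem fun t ht => by
      obtain ⟨e1, e2⟩ := hfix t ht
      exact row_inv hπ e1 e2 w
  rw [Nat.eq_of_beq_eq_true hprof, show ∀ a b : ℕ, Nat.lor a b = a ||| b from fun _ _ => rfl,
    Nat.testBit_or, Bool.or_eq_true, testBit_one1, testBit_one1, decide_eq_true_eq, decide_eq_true_eq] at hb
  rcases hb with hb | hb
  · left
    refine chain_fix hπ hrest fun r hr => ?_
    rcases List.mem_cons.1 hr with rfl | hr
    · exact ⟨hok, by rw [hwe]; exact Fin.ext hb⟩
    · exact hfix r hr
  · right
    have h1 : τ⁻¹ * π = 1 := by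
      refine chain_fix (hτ.inv.mul hπ) hrest fun r hr => ?_
      rcases List.mem_cons.1 hr with rfl | hr
      · refine ⟨hok, ?_⟩
        rw [hwe, Equiv.Perm.mul_apply, show π w = w' from Fin.ext hb, ← hw]
        exact Equiv.symm_apply_apply _ _
      · obtain ⟨e1, e2⟩ := hfix r hr
        obtain ⟨_, e3⟩ := hfixτ r hr
        refine ⟨e1, ?_⟩
        rw [Equiv.Perm.mul_apply, e2]
        exact (Equiv.symm_apply_eq _).2 e3.symm
    exact (inv_mul_eq_one.1 h1).symm

/-- the extra symmetry attached to a named element -/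
noncomputable def tau (k : ℕ) : Pm := phi (el k) * permU

theorem net_tau (k : ℕ) : NetOf (netEl k ++ netU) (tau k) := (net_el k).mul net_permU

theorem tau_ne (k : ℕ) (g : Cfsg.Spor.Suz) : phi g ≠ tau k := fun e => by
  refine permU_not_mem ((el k)⁻¹ * g) ?_
  rw [map_mul, e, tau, map_inv, inv_mul_cancel_left]

theorem row47_ok : (rowOK row47 && Nat.beq row47.1 47) = true := by decide +kernel

theorem row47_inv {π : Pm} (hπ : Pres π) (h47 : π q47 = q47) (x : Fin rep.N) :
    row47.2.2.testBit (π x) = row47.2.2.testBit x := by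
  have h := row47_ok
  rw [Bool.and_eq_true] at h
  refine row_inv hπ h.1 ?_ x
  rw [show (⟨row47.1, rowOK_lt h.1⟩ : Fin rep.N) = q47 from Fin.ext (Nat.eq_of_beq_eq_true h.2), h47]

theorem cntRow_inv {σ : Pm} (hπ : Pres σ) {rows : List Row} (hrows : rows.all rowOK = true)
    (hnd : (rows.map fun r => r.1).Nodup) {M : ℕ}
    (hM : rows.foldr (fun r S => Nat.lor (one1 r.1) S) 0 = M)
    (hinv : ∀ x : Fin rep.N, M.testBit (σ x) = M.testBit x) (w : Fin rep.N) :
    cntRow rows (σ w) = cntRow rows w := by
  classical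
  simp only [List.all_eq_true] at hrows
  let S : Finset (Fin rep.N) := Finset.univ.filter fun x => M.testBit x = true
  have key : ∀ u : Fin rep.N, cntRow rows u = (S.filter fun f => Adj f u).card := by
    intro u
    rw [cntRow, List.countP_eq_length_filter]
    let g : {r // r ∈ rows} → Fin rep.N := fun r => ⟨r.1.1, rowOK_lt (hrows _ r.2)⟩
    let L := rows.attach.map g
    have hL : L.Nodup := by
      refine List.Nodup.of_map (fun x : Fin rep.N => (x : ℕ)) ?_
      have e : L.map (fun x : Fin rep.N => (x : ℕ)) = rows.map fun r => r.1 := by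
        simp only [L, List.map_map]
        exact List.attach_map_val (l := rows) (f := fun r => r.1)
      rwa [e]
    have hS : S = L.toFinset := by
      ext x
      simp only [S, Finset.mem_filter, Finset.mem_univ, true_and, List.mem_toFinset, L, List.mem_map,
        List.mem_attach, ← hM, foldr_lor_iff]
      constructor
      · rintro ⟨r, hr, e⟩
        exact ⟨⟨r, hr⟩, Fin.ext e⟩
      · rintro ⟨r, e⟩
        exact ⟨r.1, r.2, congrArg Fin.val e⟩
    have hF : (L.toFinset.filter fun f => Adj f u) = (L.filter fun f => decide (Adj f u)).toFinset := by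
      ext f
      simp
    rw [hS, hF, List.toFinset_card_of_nodup (hL.filter _), List.filter_map, List.length_map]
    conv_lhs => rw [← List.attach_map_subtype_val rows, List.filter_map, List.length_map]
    congr 1
    refine List.filter_congr fun r _ => ?_
    simp only [Function.comp_apply]
    rw [Bool.eq_iff_iff, decide_eq_true_iff]
    exact (rowOK_spec (hrows _ r.2) u).symm
  rw [key, key]
  symm
  refine Finset.card_equiv σ fun x => ?_
  simp only [S, Finset.mem_filter, Finset.mem_univ, true_and, hinv]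
  exact and_congr_right fun _ => (hπ x w).symm

/-! ### The element of order 7 -/

/-- the point 234 -/
abbrev vY : Fin rep.N := ⟨234, by decide⟩

/-- neighbours of the base point not adjacent to 47 -/
noncomputable def classY : ℕ :=
  Nat.land D0 (Nat.xor (ones rep.N) (Nat.land row47.2.2 (ones rep.N)))

/-- the row of 234 -/
def rowVY : Row := (repsY.getD 0 ((0, [], 0), 0)).1

theorem classY_bit (x : Fin rep.N) :
    classY.testBit x = (D0.testBit x && !row47.2.2.testBit x) := by
  rw [classY]
  simp only [show ∀ a b : ℕ, Nat.land a b = a &&& b from fun _ _ => rfl,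
    show ∀ a b : ℕ, Nat.xor a b = a ^^^ b from fun _ _ => rfl,
    Nat.testBit_and, Nat.testBit_xor, testBit_all, Bool.and_true, Bool.true_xor]

theorem coverY_ok : (repsY.all (fun r => rowOK r.1) && classY.testBit 234 &&
    Nat.beq (Nat.land (repsY.foldr (fun r S => Nat.lor (orbMask (netEl 0) r.1.1 6) S) 0) classY) classY) = true := by
  decide +kernel

theorem sepY_ok : (rowOK rowVY && Nat.beq rowVY.1 234 && repsY.all (fun r => Nat.beq r.1.1 234 ||
    ((applyNet (netPow (netEl 0) r.2) r.1.2.2).testBit r.1.1 !=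
      (applyNet (netPow (netEl 0) r.2) rowVY.2.2).testBit 234))) = true := by decide +kernel

theorem chainY_ok : (init2 (netEl 0) 234 7 initY && chainPart initY stepsY && Nat.beq pivotY.1 1 &&
    rowOK pivotY && Nat.beq (profileMask 1 (stepsY.reverse ++ initY)) (Nat.lor (one1 1) (one1 969)) &&
    chainOK (pivotY :: (stepsY.reverse ++ initY)) restY) = true := by decide +kernel

theorem tauY_ok : (sendsB (netEl 14 ++ netU) 0 0 && sendsB (netEl 14 ++ netU) 47 47 &&
    sendsB (netEl 14 ++ netU) 234 234 && sendsB (netEl 14 ++ netU) 1 969 &&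
    sameNet ((netEl 14 ++ netU) ++ netEl 0) (netEl 0 ++ (netEl 14 ++ netU))) = true := by decide +kernel

/-- The centraliser of the element of order 7 in the stabiliser of two adjacent points. -/
theorem centY {x : Cfsg.Spor.Suz} (h0 : x ∈ H) (h47 : phi x q47 = q47) (hc : x * el 0 = el 0 * x) :
    ∃ i : ℕ, x = el 0 ^ i := by
  set A := phi (el 0) with hA
  have hcov := coverY_ok
  have hreps := sepY_ok
  have hτ := tauY_ok
  simp only [Bool.and_eq_true, List.all_eq_true] at hcov hreps hτ
  obtain ⟨⟨hv, hv1⟩, hreps⟩ := hreps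
  obtain ⟨⟨⟨⟨t0, t47⟩, tv⟩, tw⟩, tc⟩ := hτ
  have hP : Pres (phi x) := pres_phi x
  have h0' : phi x p0 = p0 := phi_p0 h0
  have hcA : phi x * A = A * phi x := by rw [hA, ← map_mul, hc, map_mul]
  have hAv : (⟨rowVY.1, rowOK_lt hv⟩ : Fin rep.N) = vY := Fin.ext (Nat.eq_of_beq_eq_true hv1)
  have hbit : classY.testBit (phi x vY) = true := by
    rw [classY_bit, D0_inv h0, row47_inv hP h47, ← classY_bit]
    exact hcov.1.2
  obtain ⟨r, hr, hb⟩ := foldr_lor_bit (fun r : Row × ℕ => orbMask (netEl 0) r.1.1 6)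
    (sub_of_land hcov.2 hbit)
  obtain ⟨i, hi⟩ := orbMask_spec (net_el 0) hb
  have hr1 := hcov.1.1 _ hr
  have hA0 : A p0 = p0 := phi_p0 (el_mem_H (by decide))
  have hA47 : A q47 = q47 := (net_el 0).sends (by decide +kernel)
  set π := phi (el 0 ^ i * x) with hπ
  have hπm : π = A ^ i * phi x := by rw [hπ, map_mul, map_pow]
  have hπc : π * A = A * π := by rw [hπm, mul_assoc, hcA, ← mul_assoc, ← pow_succ, pow_succ', mul_assoc]
  have him : π vY = ⟨r.1.1, rowOK_lt hr1⟩ := by rw [hπm]; exact Fin.ext hi
  have hpv : π vY = vY := by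
    rw [him]
    have hne := hreps _ hr
    simp only [Bool.or_eq_true, bne_iff_ne, ne_eq] at hne
    rcases hne with hne | hne
    · exact Fin.ext (Nat.eq_of_beq_eq_true hne)
    · exfalso
      apply hne
      have hn := (net_el 0).pow r.2
      have e1 := hn.bit r.1.2.2 ⟨r.1.1, rowOK_lt hr1⟩
      have e2 := hn.bit rowVY.2.2 vY
      have hcAe : π * A ^ r.2 = A ^ r.2 * π := (Commute.pow_right (show Commute π A from hπc) r.2).eq
      rw [e1, show (234 : ℕ) = (vY : ℕ) from rfl, e2, Bool.eq_iff_iff, ← rowOK_spec hr1, ← rowOK_spec hv,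
        ← him, hAv, ← hA, ← Equiv.Perm.mul_apply, ← hcAe, Equiv.Perm.mul_apply]
      exact pres_phi _ _ _
  have hq : ∀ q : Fin rep.N, A q = q → phi x q = q → π q = q := fun q e1 e2 => by
    rw [hπm, Equiv.Perm.mul_apply, e2]
    exact Equiv.Perm.pow_apply_eq_self_of_apply_eq_self e1 i
  rcases pinTwo (τ := tau 14) (w := q1) (w' := ⟨969, by decide⟩) (v := vY) (pres_phi _) (net_el 0) hπc
      (hq _ hA0 h0') (hq _ hA47 h47) hpv ((pres_phi _).mul pres_permU)
      ((net_tau 14).mul (net_el 0) |>.eq_of_same ((net_el 0).mul (net_tau 14)) tc)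
      ((net_tau 14).sends t0) ((net_tau 14).sends t47) ((net_tau 14).sends tv) ((net_tau 14).sends tw)
      chainY_ok with h | h
  · refine ⟨6 * i, ?_⟩
    have h1 : el 0 ^ i * x = 1 := phi_injective ((hπ.symm.trans h).trans (map_one phi).symm)
    calc x = el 0 ^ (6 * i) * (el 0 ^ i * x) := by
          rw [← mul_assoc, ← pow_add, show 6 * i + i = 7 * i by ring, pow_mul, y_seven, one_pow, one_mul]
      _ = _ := by rw [h1, mul_one]
  · exact absurd h (tau_ne 14 _)

/-! ### The element of order 6 -/

/-- the point 63 -/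
abbrev vH : Fin rep.N := ⟨63, by decide⟩

/-- fixed points of a power not fixed by the element -/
noncomputable def powFixH (nm : ℕ) : ℕ :=
  cond (Nat.beq nm 1) (fixMask (netEl 2))
    (Nat.land (fixMask (netPow (netEl 2) nm)) (Nat.xor (ones rep.N) (fixMask (netEl 2))))

/-- a mask or its complement -/
noncomputable def selM (t : Bool) (M : ℕ) : ℕ :=
  cond t (Nat.land M (ones rep.N)) (Nat.xor (ones rep.N) (Nat.land M (ones rep.N)))

/-- a set of reference points -/
noncomputable def setMaskH (s : ℕ × Bool × Bool) : ℕ :=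
  Nat.land (Nat.land (powFixH s.1) (Nat.land (selM s.2.1 D0) (selM s.2.2 row47.2.2)))
    (Nat.xor (ones rep.N) (Nat.lor (one1 0) (one1 47)))

/-- the rows of a set are right -/
noncomputable def setOKH (s : ℕ × Bool × Bool × List Row) : Bool :=
  s.2.2.2.all rowOK && decide ((s.2.2.2.map fun r => r.1).Nodup) &&
    Nat.beq (s.2.2.2.foldr (fun r S => Nat.lor (one1 r.1) S) 0) (setMaskH (s.1, s.2.1, s.2.2.1))

/-- the same invariants as the point 63 -/
def sameClassH (w : ℕ) : Bool :=
  (D0.testBit w == D0.testBit 63) && (row47.2.2.testBit w == row47.2.2.testBit 63) &&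
    setsH.all fun s => Nat.beq (cntRow s.2.2.2 w) (cntRow s.2.2.2 63)

/-- the images of 63 under the centralising elements -/
noncomputable def targetsH : ℕ :=
  (List.range 12).foldr (fun i S => Nat.lor (applyNet (netEl (28 + i)).reverse (one1 63)) S) 0

theorem setsH_ok : setsH.all setOKH = true := by decide +kernel

theorem classH_ok : (List.range rep.N).all (fun w => !sameClassH w || targetsH.testBit w) = true := by
  decide +kernel

theorem chainH_ok : (init2 (netEl 2) 63 6 initH && chainPart initH stepsH && Nat.beq pivotH.1 1 &&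
    rowOK pivotH && Nat.beq (profileMask 1 (stepsH.reverse ++ initH)) (Nat.lor (one1 1) (one1 1123)) &&
    chainOK (pivotH :: (stepsH.reverse ++ initH)) restH) = true := by decide +kernel

theorem tauH_ok : (sendsB (netEl 15 ++ netU) 0 0 && sendsB (netEl 15 ++ netU) 47 47 &&
    sendsB (netEl 15 ++ netU) 63 63 && sendsB (netEl 15 ++ netU) 1 1123 &&
    sameNet ((netEl 15 ++ netU) ++ netEl 2) (netEl 2 ++ (netEl 15 ++ netU))) = true := by decide +kernel

theorem listH_ok : (List.range 12).all (fun i => sendsB (netEl (28 + i)) 47 47 &&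
    sameNet (netEl (28 + i) ++ netEl 2) (netEl 2 ++ netEl (28 + i))) = true := by decide +kernel

theorem selM_bit (t : Bool) (M : ℕ) (x : Fin rep.N) : (selM t M).testBit x = (M.testBit x == t) := by
  cases t
  · rw [selM, cond_false, show ∀ a b : ℕ, Nat.land a b = a &&& b from fun _ _ => rfl,
      show ∀ a b : ℕ, Nat.xor a b = a ^^^ b from fun _ _ => rfl]
    simp only [Nat.testBit_and, Nat.testBit_xor, testBit_all]
    cases M.testBit x <;> rfl
  · rw [selM, cond_true, show ∀ a b : ℕ, Nat.land a b = a &&& b from fun _ _ => rfl]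
    simp only [Nat.testBit_and, testBit_all]
    cases M.testBit x <;> rfl

theorem powFixH_inv {σ : Pm} (hσ : σ * phi (el 2) = phi (el 2) * σ) (nm : ℕ) (x : Fin rep.N) :
    (powFixH nm).testBit (σ x) = (powFixH nm).testBit x := by
  have key : ∀ k, (fixMask (netPow (netEl 2) k)).testBit (σ x) = (fixMask (netPow (netEl 2) k)).testBit x := by
    intro k
    rw [Bool.eq_iff_iff, fixMask_spec ((net_el 2).pow k), fixMask_spec ((net_el 2).pow k), ← Equiv.Perm.mul_apply,
      ← (Commute.pow_right (show Commute σ (phi (el 2)) from hσ) k).eq, Equiv.Perm.mul_apply, σ.injective.eq_iff]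
  have k1 : (fixMask (netEl 2)).testBit (σ x) = (fixMask (netEl 2)).testBit x := by
    rw [Bool.eq_iff_iff, fixMask_spec (net_el 2), fixMask_spec (net_el 2), ← Equiv.Perm.mul_apply, ← hσ,
      Equiv.Perm.mul_apply, σ.injective.eq_iff]
  rw [powFixH]
  cases Nat.beq nm 1
  · rw [cond_false]
    simp only [show ∀ a b : ℕ, Nat.land a b = a &&& b from fun _ _ => rfl,
      show ∀ a b : ℕ, Nat.xor a b = a ^^^ b from fun _ _ => rfl, Nat.testBit_and, Nat.testBit_xor, key nm, k1, testBit_all]
  · rw [cond_true]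
    exact k1

theorem setMaskH_inv {g : Cfsg.Spor.Suz} (h0 : g ∈ H) (h47 : phi g q47 = q47)
    (hσ : phi g * phi (el 2) = phi (el 2) * phi g) (s : ℕ × Bool × Bool) (x : Fin rep.N) :
    (setMaskH s).testBit (phi g x) = (setMaskH s).testBit x := by
  have h1 : ∀ q : Fin rep.N, phi g q = q → (one1 q).testBit (phi g x) = (one1 q).testBit x := fun q hq => by
    have hiff : phi g x = q ↔ x = q := by
      conv_lhs => rw [← hq]
      exact (phi g).injective.eq_iff
    simp only [testBit_one1, decide_eq_decide, ← Fin.ext_iff, hiff]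
  have e0 := h1 p0 (phi_p0 h0)
  have e47 := h1 q47 h47
  simp only [show ((p0 : Fin rep.N) : ℕ) = 0 from rfl, show ((q47 : Fin rep.N) : ℕ) = 47 from rfl] at e0 e47
  rw [setMaskH]
  simp only [show ∀ a b : ℕ, Nat.land a b = a &&& b from fun _ _ => rfl,
    show ∀ a b : ℕ, Nat.xor a b = a ^^^ b from fun _ _ => rfl,
    show ∀ a b : ℕ, Nat.lor a b = a ||| b from fun _ _ => rfl,
    Nat.testBit_and, Nat.testBit_xor, Nat.testBit_or, testBit_all, selM_bit, powFixH_inv hσ, D0_inv h0,
    row47_inv (pres_phi g) h47, e0, e47]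

/-- The centraliser of the element of order 6 in the stabiliser of two adjacent points. -/
theorem centH {x : Cfsg.Spor.Suz} (h0 : x ∈ H) (h47 : phi x q47 = q47) (hc : x * el 2 = el 2 * x) :
    ∃ i < 12, x = el (28 + i) := by
  set B := phi (el 2) with hB
  have hcB : phi x * B = B * phi x := by rw [hB, ← map_mul, hc, map_mul]
  have hclass : sameClassH (phi x vH) = true := by
    simp only [sameClassH, Bool.and_eq_true, List.all_eq_true, beq_iff_eq]
    refine ⟨⟨D0_inv h0 vH, row47_inv (pres_phi x) h47 vH⟩, fun s hs => ?_⟩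
    have hok := List.all_eq_true.1 setsH_ok s hs
    simp only [setOKH, Bool.and_eq_true, decide_eq_true_eq] at hok
    rw [cntRow_inv (pres_phi x) hok.1.1 hok.1.2 (Nat.eq_of_beq_eq_true hok.2)
      (setMaskH_inv h0 h47 hcB _) vH]
    exact Nat.beq_refl _
  have htg := List.all_eq_true.1 classH_ok (phi x vH : ℕ) (List.mem_range.2 (phi x vH).2)
  rw [hclass, Bool.not_true, Bool.false_or] at htg
  obtain ⟨i, hi, hb⟩ := foldr_lor_bit (fun i : ℕ => applyNet (netEl (28 + i)).reverse (one1 63)) htg
  rw [List.mem_range] at hi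
  rw [(net_el (28 + i)).rev.bit, testBit_one1, decide_eq_true_eq] at hb
  refine ⟨i, hi, ?_⟩
  have hl := List.all_eq_true.1 listH_ok i (List.mem_range.2 hi)
  rw [Bool.and_eq_true] at hl
  have hk : 28 + i ≠ 3 := by omega
  have hk47 : phi (el (28 + i)) q47 = q47 := sendsE hl.1
  have hkc : phi (el (28 + i)) * B = B * phi (el (28 + i)) :=
    ((net_el _).mul (net_el 2)).eq_of_same ((net_el 2).mul (net_el _)) hl.2
  have hτ := tauH_ok
  simp only [Bool.and_eq_true] at hτ
  obtain ⟨⟨⟨⟨t0, t47⟩, tv⟩, tw⟩, tc⟩ := hτ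
  rcases pinTwo (τ := tau 15) (w := q1) (w' := ⟨1123, by decide⟩) (v := vH)
      (π := phi ((el (28 + i))⁻¹ * x)) (pres_phi _) (net_el 2)
      (by rw [map_mul, map_inv]
          exact (Commute.mul_left (show Commute (phi (el (28 + i))) B from hkc).inv_left
            (show Commute (phi x) B from hcB)).eq)
      (phi_p0 (H.mul_mem (H.inv_mem (el_mem_H hk)) h0))
      (by rw [map_mul, map_inv, Equiv.Perm.mul_apply, h47]; exact (Equiv.symm_apply_eq _).2 hk47.symm)
      (by rw [map_mul, map_inv, Equiv.Perm.mul_apply]; exact Fin.ext hb)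
      ((pres_phi _).mul pres_permU)
      ((net_tau 15).mul (net_el 2) |>.eq_of_same ((net_el 2).mul (net_tau 15)) tc)
      ((net_tau 15).sends t0) ((net_tau 15).sends t47) ((net_tau 15).sends tv) ((net_tau 15).sends tw)
      chainH_ok with h | h
  · have h1 : (el (28 + i))⁻¹ * x = 1 := phi_injective (by rw [h, map_one])
    exact (inv_mul_eq_one.1 h1).symm
  · exact absurd h (tau_ne 15 _)

end CfsgLib.SuzRankThree
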