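import Cfsg.Agent.Lib.SuzRankThree.Emb

/-!
An element exchanging two adjacent points, normalised on their stabiliser.
-/
set_option autoImplicit false
set_option maxRecDepth 8000

namespace CfsgLib.SuzRankThree

open CfsgLib.Presented CfsgLib.Presented.Vec CfsgLib.OutSuz
open CfsgLib.Presented.SuzCosets (phi phi_ev rep_valid ev H)
open CfsgLib.Presented.SuzCert (rep)
open CfsgLib.Presented.SuzOrder (phi_injective)

/-- the element of order 7 -/
noncomputable abbrev yH : H := ⟨el 0, el_mem_H (by decide)⟩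
/-- an element of order 3 commuting with it -/
noncomputable abbrev wH : H := ⟨el 1, el_mem_H (by decide)⟩
/-- the element of order 6 -/
noncomputable abbrev hH : H := ⟨el 2, el_mem_H (by decide)⟩
/-- the third generator -/
noncomputable abbrev cH : H := ⟨el 4, el_mem_H (by decide)⟩
/-- its conjugate -/
noncomputable abbrev ccH : H := ⟨el 5, el_mem_H (by decide)⟩
/-- an element fixing 304 and moving 1700 -/
noncomputable abbrev kH : H := ⟨el 9, el_mem_H (by decide)⟩

/-- the subgroup generated by the three generators -/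
noncomputable def C3 : Subgroup Cfsg.Spor.Suz := Subgroup.closure (el '' {k | k ∈ [0, 2, 4]})

theorem C3_le : C3 ≤ H ⊓ St q47 := gens3_le

theorem points_ok : (sendsB (netEl 1) 47 304 && sendsB (netEl 1) 304 1700 && sendsB (netEl 1) 1700 47 &&
    sendsB (netEl 9) 304 304 && !(sendsB (netEl 9) 1700 1700) &&
    sendsB (netEl 0) 47 47 && sendsB (netEl 2) 47 47 && sendsB (netEl 4) 47 47 &&
    sendsB (netEl 0) 304 304 && sendsB (netEl 0) 1700 1700 &&
    Nat.beq (Nat.land (fixMask (netEl 0)) D0) (Nat.lor (one1 47) (Nat.lor (one1 304) (one1 1700)))) = true := by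
  decide +kernel

theorem w47 : phi (el 1) q47 = q304 ∧ phi (el 1) q304 = q1700 ∧ phi (el 1) q1700 = q47 := by
  have h := points_ok
  simp only [Bool.and_eq_true] at h
  exact ⟨sendsE h.1.1.1.1.1.1.1.1.1.1, sendsE h.1.1.1.1.1.1.1.1.1.2, sendsE h.1.1.1.1.1.1.1.1.2⟩

theorem w47_two : phi (el 1 ^ 2) q47 = q1700 := by
  rw [pow_two, map_mul, Equiv.Perm.mul_apply, w47.1, w47.2.1]

theorem fix47 : phi (el 0) q47 = q47 ∧ phi (el 2) q47 = q47 ∧ phi (el 4) q47 = q47 ∧
    phi (el 0) q304 = q304 ∧ phi (el 0) q1700 = q1700 := by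
  have h := points_ok
  simp only [Bool.and_eq_true] at h
  exact ⟨sendsE h.1.1.1.1.1.2, sendsE h.1.1.1.1.2, sendsE h.1.1.1.2, sendsE h.1.1.2, sendsE h.1.2⟩

theorem k304 : phi (el 9) q304 = q304 := by
  have h := points_ok
  simp only [Bool.and_eq_true] at h
  exact sendsE h.1.1.1.1.1.1.1.2

theorem k1700 : phi (el 9) q1700 ≠ q1700 := by
  intro e
  have h := points_ok
  simp only [Bool.and_eq_true, Bool.not_eq_true'] at h
  have h2 := h.1.1.1.1.1.1.2
  have e' : applyNet (netEl 9) (one1 1700) = Nat.land (one1 1700) (one1 1700) → False := by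
    intro he
    rw [sendsB, he, show ∀ a b : ℕ, Nat.land a b = a &&& b from fun _ _ => rfl, Nat.and_self, Nat.beq_refl] at h2
    exact absurd h2 (by decide)
  refine e' ?_
  rw [show ∀ a b : ℕ, Nat.land a b = a &&& b from fun _ _ => rfl, Nat.and_self]
  refine Nat.eq_of_testBit_eq fun j => ?_
  rw [testBit_applyNet (net_el 9).ok, testBit_one1, testBit_one1, decide_eq_decide]
  have hv : netPerm (netEl 9) 1700 = 1700 := by
    have := (net_el 9).val q1700
    rwa [e] at this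
  exact ⟨fun h' => (netPerm (netEl 9)).injective (h'.trans hv.symm), fun h' => h' ▸ hv⟩

theorem y_fix_cases {q : Fin rep.N} (hq : D0.testBit q = true) (h : phi (el 0) q = q) :
    q = q47 ∨ q = q304 ∨ q = q1700 := by
  have hp := points_ok
  simp only [Bool.and_eq_true] at hp
  have hb : (Nat.land (fixMask (netEl 0)) D0).testBit q = true := by
    rw [show ∀ a b : ℕ, Nat.land a b = a &&& b from fun _ _ => rfl, Nat.testBit_and,
      (fixMask_spec (net_el 0) q).2 h, hq]
    rfl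
  rw [Nat.eq_of_beq_eq_true hp.2] at hb
  simp only [show ∀ a b : ℕ, Nat.lor a b = a ||| b from fun _ _ => rfl, Nat.testBit_or, Bool.or_eq_true,
    testBit_one1, decide_eq_true_eq] at hb
  rcases hb with e | e | e
  · exact Or.inl (Fin.ext e)
  · exact Or.inr (Or.inl (Fin.ext e))
  · exact Or.inr (Or.inr (Fin.ext e))

theorem h_pow_y (l i : ℕ) : el 2 ^ l * el 0 ^ i = el 0 ^ (3 ^ l * i) * el 2 ^ l := by
  induction l generalizing i with
  | zero => simp
  | succ l ih => rw [pow_succ, mul_assoc, conj_pow_y h_y, ← mul_assoc, ih, mul_assoc, pow_succ, mul_assoc]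

/-- the three generators with the last one replaced -/
noncomputable def els3 (c k : ℕ) : Cfsg.Spor.Suz := el ([0, 2, c].getD k 999)

theorem rels_ok : (relsJ.all (fun r => r.1.all (fun x => Nat.blt x 3) &&
    sameNet (netPow (r.1.flatMap fun k => netEl ([0, 2, 4].getD k 999)) r.2) []) &&
    (List.range 12).all (fun i => Nat.beq i 5 || Nat.beq i 11 ||
      relWit.any (fun t => Nat.beq t.1 i && Nat.blt t.2.1 relsJ.length && Nat.blt t.2.2 rep.N &&
        !(sendsB (netPow ((relsJ.getD t.2.1 ([], 0)).1.flatMap fun k => netEl ([0, 2, 28 + i].getD k 999))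
          (relsJ.getD t.2.1 ([], 0)).2) t.2.2 t.2.2))) &&
    sameNet (netEl 33) (netEl 4) && sameNet (netEl 39) (netEl 5)) = true := by decide +kernel

theorem clos_ok : closWords.all (fun e => e.2.all (fun x => [0, 2, 4].contains x) &&
    sameNet (netEl e.1) (flatN e.2)) = true ∧
    (List.range 6).all (fun k => closWords.any fun e => Nat.beq e.1 ([5, 9, 10, 11, 12, 13].getD k 0)) = true := by
  decide +kernel

theorem mem_C3 {k : ℕ} (hk : k ∈ [5, 9, 10, 11, 12, 13]) : el k ∈ C3 := by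
  obtain ⟨i, hi, e⟩ := List.getElem_of_mem hk
  have := List.all_eq_true.1 clos_ok.2 i (List.mem_range.2 hi)
  rw [List.any_eq_true] at this
  obtain ⟨w, hw, hwk⟩ := this
  have hw' := List.all_eq_true.1 clos_ok.1 w hw
  rw [Bool.and_eq_true] at hw'
  have e1 : w.1 = k := by rw [Nat.eq_of_beq_eq_true hwk, List.getD_eq_getElem _ _ hi, e]
  rw [← e1, eq_of_nets (net_el _) (net_elW _) hw'.2]
  exact elW_mem fun x hx =>
    Subgroup.subset_closure ⟨x, List.contains_iff_mem.1 (List.all_eq_true.1 hw'.1 x hx), rfl⟩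

theorem ucu : el 3 * el 4 * el 3 = el 5 := by
  have := eqW [3, 4, 3] [5] (by decide +kernel)
  simpa [elW, mul_assoc] using this

theorem uyu : el 3 * el 0 * el 3 = el 0 := by rw [u_y, mul_assoc, u_sq, mul_one]

theorem uhu : el 3 * el 2 * el 3 = el 2 := by rw [u_h, mul_assoc, u_sq, mul_one]

theorem C3_u {x : Cfsg.Spor.Suz} (hx : x ∈ C3) : el 3 * x * el 3 ∈ C3 := by
  refine closure_pred (P := fun x => el 3 * x * el 3 ∈ C3) (by simp [u_sq]) (fun x z hx hz => ?_) ?_ hx
  · have := C3.mul_mem hx hz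
    rwa [show el 3 * x * el 3 * (el 3 * z * el 3) = el 3 * x * (el 3 * el 3) * z * el 3 by
      simp only [mul_assoc], u_sq, mul_one, mul_assoc (el 3) x z] at this
  · rintro _ ⟨k, hk, rfl⟩
    have hm : ∀ j ∈ [0, 2, 4], el j ∈ C3 := fun j hj => Subgroup.subset_closure ⟨j, hj, rfl⟩
    simp only [Set.mem_setOf_eq, List.mem_cons, List.not_mem_nil, or_false] at hk
    rcases hk with rfl | rfl | rfl
    · rw [uyu]; exact hm _ (by decide)
    · rw [uhu]; exact hm _ (by decide)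
    · rw [ucu]; exact mem_C3 (by decide)

namespace Emb

variable {Ω : Type*} {G : Subgroup (Equiv.Perm Ω)} {a : Ω} (E : Emb G a)

/-- `b` has the stabiliser of 47 -/
def Based : Prop := ∀ x : H, E.A x E.b = E.b ↔ phi x q47 = q47

variable {E}

theorem pt_iff (hE : E.Based) (x z : H) : E.A x E.b = E.A z E.b ↔ phi x q47 = phi z q47 := by
  have h := hE (z⁻¹ * x)
  rw [Subgroup.coe_mul, Subgroup.coe_inv, map_mul, map_inv, Equiv.Perm.mul_apply, map_mul, map_inv,
    Equiv.Perm.mul_apply, Equiv.Perm.inv_def, Equiv.Perm.inv_def, Equiv.symm_apply_eq,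
    Equiv.symm_apply_eq] at h
  exact h

/-- exchanges `a` and `b` and centralises the element of order 7 -/
def Swap (E : Emb G a) (g : Equiv.Perm Ω) : Prop :=
  g ∈ G ∧ g a = E.b ∧ g E.b = a ∧ g * E.A yH * g⁻¹ = E.A yH

theorem conj_mem (hE : E.Based) {g : Equiv.Perm Ω} (hg : g ∈ G) (ga : g a = E.b) (gb : g E.b = a) {x : H}
    (hx : phi x q47 = q47) : ∃ z : H, phi z q47 = q47 ∧ E.A z = g * E.A x * g⁻¹ := by
  have ha' : g⁻¹ a = E.b := (Equiv.symm_apply_eq g).2 gb.symm
  have hb' : g⁻¹ E.b = a := (Equiv.symm_apply_eq g).2 ga.symm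
  obtain ⟨z, hz⟩ := E.surj (g * E.A x * g⁻¹) (G.mul_mem (G.mul_mem hg (E.mem x)) (G.inv_mem hg))
    (by rw [Equiv.Perm.mul_apply, Equiv.Perm.mul_apply, ha', (hE x).2 hx, gb])
  refine ⟨z, (hE z).1 ?_, hz⟩
  rw [hz, Equiv.Perm.mul_apply, Equiv.Perm.mul_apply, hb', E.fix, ga]

theorem exists_swap_y (hE : E.Based) : ∃ g, Swap E g := by
  obtain ⟨g, hg, ga, gb⟩ := E.exists_swap
  obtain ⟨z, hz47, hz⟩ := conj_mem hE hg ga gb (x := yH) fix47.1
  have oz : orderOf (z : Cfsg.Spor.Suz) = 7 := by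
    rw [Subgroup.orderOf_coe, ← orderOf_injective E.A E.inj, hz, ← MulAut.conj_apply,
      ← MulEquiv.coe_toMonoidHom, orderOf_injective _ (MulAut.conj g).injective,
      orderOf_injective E.A E.inj, ← Subgroup.orderOf_coe, orderOf_y]
  have hL : ¬ 49 ∣ Nat.card (H ⊓ St q47 : Subgroup Cfsg.Spor.Suz) := by
    rw [card_stab_D0 D0_q47]; norm_num
  obtain ⟨x, hx, i, hi⟩ := conj_seven (y := (z : Cfsg.Spor.Suz)) (z := el 0) hL ⟨z.2, hz47⟩
    ⟨yH.2, fix47.1⟩ oz orderOf_y
  have hi7 : i % 7 ≠ 0 := fun h0 => by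
    rw [← pow_y_mod, h0, pow_zero] at hi
    have : (z : Cfsg.Spor.Suz) = 1 := by simpa using hi
    rw [this, orderOf_one] at oz
    omega
  have hl : ∀ r < 7, r ≠ 0 → ∃ l < 6, 3 ^ l * r % 7 = 1 := by decide
  obtain ⟨l, -, hl⟩ := hl (i % 7) (Nat.mod_lt _ (by norm_num)) hi7
  have hm : (hH ^ l * ⟨x, hx.1⟩ : H) * z * (hH ^ l * ⟨x, hx.1⟩)⁻¹ = yH := by
    refine Subtype.ext ?_
    simp only [Subgroup.coe_mul, Subgroup.coe_inv, SubgroupClass.coe_pow]
    calc el 2 ^ l * x * (z : Cfsg.Spor.Suz) * (el 2 ^ l * x)⁻¹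
        = el 2 ^ l * (x * z * x⁻¹) * (el 2 ^ l)⁻¹ := by group
      _ = el 0 ^ (3 ^ l * i) := by rw [hi, h_pow_y, mul_inv_cancel_right]
      _ = el 0 := by
        rw [← pow_y_mod, Nat.mul_mod, ← Nat.mod_mod i, ← Nat.mul_mod, hl, pow_one]
  set m : H := hH ^ l * ⟨x, hx.1⟩ with hmdef
  have hm47 : E.A m E.b = E.b := (hE m).2 (by
    have hp : el 2 ^ l * x ∈ St q47 := (St q47).mul_mem ((St q47).pow_mem fix47.2.1 _) hx.2
    simpa [hmdef] using hp)
  refine ⟨E.A m * g, G.mul_mem (E.mem m) hg, by rw [Equiv.Perm.mul_apply, ga, hm47],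
    by rw [Equiv.Perm.mul_apply, gb, E.fix], ?_⟩
  calc E.A m * g * E.A yH * (E.A m * g)⁻¹
      = E.A m * (g * E.A yH * g⁻¹) * (E.A m)⁻¹ := by group
    _ = E.A yH := by rw [← hz, ← map_inv, ← map_mul, ← map_mul, hm]

theorem exists_swap_yh (hE : E.Based) : ∃ g, Swap E g ∧ g * E.A hH * g⁻¹ = E.A hH := by
  obtain ⟨g, hg, ga, gb, gy⟩ := exists_swap_y hE
  obtain ⟨z, hz47, hz⟩ := conj_mem hE hg ga gb (x := hH) fix47.2.1
  have hrel : z * yH = yH ^ 3 * z := by
    refine E.inj ?_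
    have h0 : hH * yH = yH ^ 3 * hH := Subtype.ext (by simpa using h_y)
    have h1 := congrArg (fun t => g * E.A t * g⁻¹) h0
    simp only [map_mul, map_pow] at h1 ⊢
    rw [hz]
    calc g * E.A hH * g⁻¹ * E.A yH = g * E.A hH * g⁻¹ * (g * E.A yH * g⁻¹) := by rw [gy]
      _ = g * (E.A hH * E.A yH) * g⁻¹ := by group
      _ = (g * E.A yH * g⁻¹) ^ 3 * (g * E.A hH * g⁻¹) := by rw [h1, conj_pow]; group
      _ = _ := by rw [gy]
  have hrel' : (z : Cfsg.Spor.Suz) * el 0 = el 0 ^ 3 * z := by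
    simpa using congrArg (fun t : H => (t : Cfsg.Spor.Suz)) hrel
  have hc : (el 2)⁻¹ * (z : Cfsg.Spor.Suz) * el 0 = el 0 * ((el 2)⁻¹ * z) := by
    rw [mul_assoc, hrel', ← mul_assoc, ← mul_assoc]
    congr 1
    rw [inv_mul_eq_iff_eq_mul, ← mul_assoc, h_y, mul_inv_cancel_right]
  obtain ⟨i, hi⟩ := centY (H.mul_mem (H.inv_mem hH.2) z.2)
    (mem_St.1 ((St q47).mul_mem ((St q47).inv_mem fix47.2.1) hz47)) hc
  have hzi : (z : Cfsg.Spor.Suz) = el 2 * el 0 ^ i := by rw [← hi, mul_inv_cancel_left]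
  have hm47 : E.A (yH ^ (5 * i)) E.b = E.b := (hE _).2 (by
    simpa using mem_St.1 ((St q47).pow_mem (mem_St.2 fix47.1) (5 * i)))
  have hcancel : yH ^ (5 * i) * z * (yH ^ (5 * i))⁻¹ = hH := by
    refine mul_inv_eq_iff_eq_mul.2 (Subtype.ext ?_)
    simp only [Subgroup.coe_mul, SubgroupClass.coe_pow, hzi]
    rw [conj_pow_y h_y, ← mul_assoc, ← pow_add, conj_pow_y h_y, ← pow_y_mod, ← pow_y_mod (3 * (5 * i))]
    congr 2
    omega
  refine ⟨E.A (yH ^ (5 * i)) * g, ⟨G.mul_mem (E.mem _) hg, by rw [Equiv.Perm.mul_apply, ga, hm47],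
    by rw [Equiv.Perm.mul_apply, gb, E.fix], ?_⟩, ?_⟩
  · calc E.A (yH ^ (5 * i)) * g * E.A yH * (E.A (yH ^ (5 * i)) * g)⁻¹
        = E.A (yH ^ (5 * i)) * (g * E.A yH * g⁻¹) * (E.A (yH ^ (5 * i)))⁻¹ := by group
      _ = E.A yH := by rw [gy, map_pow, ← pow_succ, pow_succ', mul_inv_cancel_right]
  · calc E.A (yH ^ (5 * i)) * g * E.A hH * (E.A (yH ^ (5 * i)) * g)⁻¹
        = E.A (yH ^ (5 * i)) * (g * E.A hH * g⁻¹) * (E.A (yH ^ (5 * i)))⁻¹ := by group
      _ = E.A hH := by rw [← hz, ← map_inv, ← map_mul, ← map_mul, hcancel]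

/-- the point attached to a power of the element of order 3 -/
noncomputable def P (E : Emb G a) (i : ℕ) : Ω := E.A (wH ^ i) E.b

theorem wH_three : wH ^ 3 = 1 := Subtype.ext (by simpa using w_three)

theorem wy : wH * yH = yH * wH := Subtype.ext (by simpa using w_y)

theorem swap_P (hE : E.Based) {g : Equiv.Perm Ω} (hs : Swap E g) :
    g (E.P 1) = E.P 2 ∧ g (E.P 2) = E.P 1 := by
  obtain ⟨hg, ga, gb, gy⟩ := hs
  have hy : ∀ i, E.A yH (E.P i) = E.P i := fun i => by
    rw [P, ← Equiv.Perm.mul_apply, ← map_mul, ← ((show Commute wH yH from wy).pow_left i).eq, map_mul,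
      Equiv.Perm.mul_apply, (hE yH).2 fix47.1]
  have hne : ∀ i, i = 1 ∨ i = 2 → E.P i ≠ E.b := by
    intro i hi e
    rw [P, hE] at e
    rcases hi with rfl | rfl
    · rw [pow_one, w47.1] at e; exact absurd e (by decide)
    · rw [SubgroupClass.coe_pow, w47_two] at e; exact absurd e (by decide)
  have key : ∀ i, i = 1 ∨ i = 2 → g (E.P i) = E.P 1 ∨ g (E.P i) = E.P 2 := by
    intro i hi
    have hfix : E.A yH (g (E.P i)) = g (E.P i) := by
      conv_lhs => rw [← gy]
      rw [Equiv.Perm.mul_apply, Equiv.Perm.mul_apply, Equiv.Perm.inv_def, Equiv.symm_apply_apply, hy]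
    rcases E.cases (g (E.P i)) with h | h | h
    · exact absurd (g.injective (h.trans gb.symm)) (hne i hi)
    · obtain ⟨x, hx⟩ := h
      rw [← hx] at hfix
      dsimp only at hfix
      rw [← Equiv.Perm.mul_apply, ← map_mul, pt_iff hE, Subgroup.coe_mul, map_mul, Equiv.Perm.mul_apply] at hfix
      rcases y_fix_cases (by rw [D0_inv x.2]; exact D0_q47) hfix with e | e | e
      · have : E.A x E.b = E.b := (hE x).2 e
        exfalso
        have hP : E.P i = a := g.injective (hx.symm.trans (this.trans ga.symm))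
        have := E.range_eq (p := E.b) (q := a) ⟨wH ^ i, hP⟩
        have := congrArg Set.ncard this
        rw [E.range_a, Set.ncard_singleton, E.hb] at this
        omega
      · left
        rw [← hx]
        exact (pt_iff hE x (wH ^ 1)).2 (by rw [e, pow_one, w47.1])
      · right
        rw [← hx]
        exact (pt_iff hE x (wH ^ 2)).2 (by rw [e, SubgroupClass.coe_pow, w47_two])
    · exfalso
      have hcard := E.card_orbit (g (E.P i))
      rw [E.range_eq h, E.hc] at hcard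
      have := finite_suz
      have hd := Subgroup.orderOf_dvd_natCard (E.stabOf (g (E.P i))) ((E.coe_mem_stabOf yH).2 hfix)
      rw [show ((yH : H) : Cfsg.Spor.Suz) = el 0 from rfl, orderOf_y] at hd
      omega
  have h12 : E.P 1 ≠ E.P 2 := fun e => by
    rw [P, P, pt_iff hE, pow_one, SubgroupClass.coe_pow, w47.1, w47_two] at e
    exact absurd e (by decide)
  rcases key 1 (Or.inl rfl) with h1 | h1 <;> rcases key 2 (Or.inr rfl) with h2 | h2
  · exact absurd (g.injective (h1.trans h2.symm)) h12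
  · exfalso
    set W := E.A wH
    have hWa : W a = a := E.fix _
    have hW1 : W E.b = E.P 1 := by rw [P, pow_one]
    have hW2 : W (E.P 1) = E.P 2 := by
      rw [P, P, ← Equiv.Perm.mul_apply, ← map_mul, ← pow_succ']
    have hW3 : W (E.P 2) = E.b := by
      rw [P, ← Equiv.Perm.mul_apply, ← map_mul, ← pow_succ', wH_three, map_one, Equiv.Perm.one_apply]
    have i1 : W⁻¹ (E.P 1) = E.b := (Equiv.symm_apply_eq W).2 hW1.symm
    have i2 : W⁻¹ a = a := (Equiv.symm_apply_eq W).2 hWa.symm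
    have i3 : W⁻¹ E.b = E.P 2 := (Equiv.symm_apply_eq W).2 hW3.symm
    have g1 : g⁻¹ E.b = a := (Equiv.symm_apply_eq g).2 ga.symm
    have g2 : g⁻¹ (E.P 2) = E.P 2 := (Equiv.symm_apply_eq g).2 h2.symm
    have g3 : g⁻¹ a = E.b := (Equiv.symm_apply_eq g).2 gb.symm
    obtain ⟨x, hx⟩ := E.surj (g⁻¹ * W⁻¹ * g * W * g)
      (G.mul_mem (G.mul_mem (G.mul_mem (G.mul_mem (G.inv_mem hg) (G.inv_mem (E.mem _))) hg) (E.mem _)) hg)
      (by simp only [Equiv.Perm.mul_apply]; rw [ga, hW1, h1, i1, g1])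
    have cg : Commute g (E.A yH) := mul_inv_eq_iff_eq_mul.1 gy
    have cw : Commute W (E.A yH) := (show Commute wH yH from wy).map E.A
    have hcomm : x * yH = yH * x := E.inj (by
      rw [map_mul, map_mul, hx]
      exact ((((cg.inv_left.mul_left cw.inv_left).mul_left cg).mul_left cw).mul_left cg).eq)
    have hxb : E.A x E.b = E.P 2 := by
      rw [hx]; simp only [Equiv.Perm.mul_apply]; rw [gb, hWa, ga, i3, g2]
    have hx2 : E.A x (E.P 2) = E.b := by
      rw [hx]; simp only [Equiv.Perm.mul_apply]; rw [h2, hW3, gb, i2, g3]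
    rw [P, pt_iff hE, SubgroupClass.coe_pow, w47_two] at hxb
    have hxy : (x : Cfsg.Spor.Suz) * el 0 = el 0 * x := by
      simpa using congrArg (fun t : H => (t : Cfsg.Spor.Suz)) hcomm
    obtain ⟨j, hj⟩ := centY (x := el 1 * (x : Cfsg.Spor.Suz)) (H.mul_mem wH.2 x.2)
      (by rw [map_mul, Equiv.Perm.mul_apply, hxb, w47.2.2]) (by rw [mul_assoc, hxy, ← mul_assoc, w_y, mul_assoc])
    rw [P, ← Equiv.Perm.mul_apply, ← map_mul, hE, Subgroup.coe_mul, SubgroupClass.coe_pow, map_mul,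
      Equiv.Perm.mul_apply, w47_two] at hx2
    have h3 : phi (el 1 * (x : Cfsg.Spor.Suz)) q1700 = q304 := by
      rw [map_mul, Equiv.Perm.mul_apply, hx2, w47.1]
    rw [hj, map_pow, Equiv.Perm.pow_apply_eq_self_of_apply_eq_self fix47.2.2.2.2] at h3
    exact absurd h3 (by decide)
  · exact ⟨h1, h2⟩
  · exact absurd (g.injective (h1.trans h2.symm)) h12

/-- conjugation by `g` agrees with conjugation by `u` on an element -/
def Agree (E : Emb G a) (g : Equiv.Perm Ω) (x : Cfsg.Spor.Suz) : Prop :=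
  ∃ (h : x ∈ H) (h' : el 3 * x * el 3 ∈ H), g * E.A ⟨x, h⟩ * g⁻¹ = E.A ⟨el 3 * x * el 3, h'⟩

theorem conj_evW {g : Equiv.Perm Ω} (e f : ℕ → H) (h : ∀ k, g * E.A (e k) * g⁻¹ = E.A (f k)) :
    ∀ w : List ℕ, g * E.A (evW e w) * g⁻¹ = E.A (evW f w)
  | [] => by simp
  | x :: w => by
    rw [evW_cons, evW_cons, map_mul, map_mul, ← h x, ← conj_evW e f h w]
    group

theorem exists_norm (hE : E.Based) : ∃ g, Swap E g ∧ ∀ x ∈ C3, Agree E g x := by
  obtain ⟨g, hs, gh⟩ := exists_swap_yh hE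
  have hP := swap_P hE hs
  obtain ⟨hg, ga, gb, gy⟩ := hs
  obtain ⟨z, hz47, hz⟩ := conj_mem hE hg ga gb (x := cH) fix47.2.2.1
  have hzc : (z : Cfsg.Spor.Suz) * el 2 = el 2 * z := by
    have h0 : cH * hH = hH * cH := by
      refine Subtype.ext ?_
      have := eqW [4, 2] [2, 4] (by decide +kernel)
      simpa [elW] using this
    have h1 : z * hH = hH * z := E.inj (by
      rw [map_mul, map_mul, hz]
      conv_lhs => rw [← gh]
      conv_rhs => rw [← gh]
      calc g * E.A cH * g⁻¹ * (g * E.A hH * g⁻¹) = g * E.A (cH * hH) * g⁻¹ := by rw [map_mul]; group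
        _ = _ := by rw [h0, map_mul]; group)
    simpa using congrArg (fun t : H => (t : Cfsg.Spor.Suz)) h1
  obtain ⟨i, hi12, hi⟩ := centH z.2 hz47 hzc
  have hr := rels_ok
  simp only [Bool.and_eq_true, List.all_eq_true (l := List.range 12), List.mem_range] at hr
  obtain ⟨⟨⟨hrel, hwit⟩, h33⟩, h39⟩ := hr
  have hw := hwit i hi12
  rw [Bool.or_eq_true, Bool.or_eq_true] at hw
  rcases hw with (hw | hw) | hw
  · exfalso
    have hi5 : i = 5 := Nat.eq_of_beq_eq_true hw
    subst hi5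
    have e4 : el 33 = el 4 := eq_of_nets (net_el _) (net_el _) h33
    have gc : g * E.A cH * g⁻¹ = E.A cH := by
      rw [← hz]; exact congrArg E.A (Subtype.ext (hi.trans e4))
    have key : ∀ x ∈ C3, ∃ h : x ∈ H, g * E.A ⟨x, h⟩ * g⁻¹ = E.A ⟨x, h⟩ := by
      intro x hx
      refine closure_pred (P := fun x => ∃ h : x ∈ H, g * E.A ⟨x, h⟩ * g⁻¹ = E.A ⟨x, h⟩)
        ⟨H.one_mem, by rw [show (⟨1, H.one_mem⟩ : H) = 1 from rfl, map_one]; group⟩ (fun x z hx hz => ?_) ?_ hx
      · obtain ⟨h1, e1⟩ := hx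
        obtain ⟨h2, e2⟩ := hz
        refine ⟨H.mul_mem h1 h2, ?_⟩
        rw [show (⟨x * z, H.mul_mem h1 h2⟩ : H) = ⟨x, h1⟩ * ⟨z, h2⟩ from rfl, map_mul]
        conv_rhs => rw [← e1, ← e2]
        group
      · rintro _ ⟨k, hk, rfl⟩
        simp only [Set.mem_setOf_eq, List.mem_cons, List.not_mem_nil, or_false] at hk
        rcases hk with rfl | rfl | rfl
        · exact ⟨yH.2, gy⟩
        · exact ⟨hH.2, gh⟩
        · exact ⟨cH.2, gc⟩
    obtain ⟨_, gk⟩ := key (el 9) (mem_C3 (by decide))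
    have hk1 : E.A kH (E.P 1) = E.P 1 := by
      rw [P, ← Equiv.Perm.mul_apply, ← map_mul, pt_iff hE, Subgroup.coe_mul, pow_one, map_mul,
        Equiv.Perm.mul_apply, w47.1, k304]
    have hk2 : E.A kH (E.P 2) = E.P 2 := by
      conv_lhs => rw [← hP.1, ← show g * E.A kH * g⁻¹ = E.A kH from gk]
      rw [Equiv.Perm.mul_apply, Equiv.Perm.mul_apply, Equiv.Perm.inv_def, Equiv.symm_apply_apply, hk1, hP.1]
    rw [P, ← Equiv.Perm.mul_apply, ← map_mul, pt_iff hE, Subgroup.coe_mul, SubgroupClass.coe_pow, map_mul,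
      Equiv.Perm.mul_apply, w47_two] at hk2
    exact k1700 hk2
  · have hi11 : i = 11 := Nat.eq_of_beq_eq_true hw
    subst hi11
    have e5 : el 39 = el 5 := eq_of_nets (net_el _) (net_el _) h39
    have gc : g * E.A cH * g⁻¹ = E.A ccH := by
      rw [← hz]; exact congrArg E.A (Subtype.ext (hi.trans e5))
    refine ⟨g, ⟨hg, ga, gb, gy⟩, fun x hx => closure_pred (P := Agree E g) ?_ (fun x z hx hz => ?_) ?_ hx⟩
    · refine ⟨H.one_mem, by rw [mul_one, u_sq]; exact H.one_mem, ?_⟩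
      rw [show (⟨1, H.one_mem⟩ : H) = 1 from rfl, map_one, mul_one, mul_inv_cancel, eq_comm]
      exact (congrArg E.A (Subtype.ext (show el 3 * 1 * el 3 = 1 by rw [mul_one, u_sq]))).trans (map_one E.A)
    · obtain ⟨h1, h1', e1⟩ := hx
      obtain ⟨h2, h2', e2⟩ := hz
      have e : el 3 * x * el 3 * (el 3 * z * el 3) = el 3 * (x * z) * el 3 := by
        rw [show el 3 * x * el 3 * (el 3 * z * el 3) = el 3 * x * (el 3 * el 3) * z * el 3 by
          simp only [mul_assoc], u_sq, mul_one, mul_assoc (el 3) x z]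
      refine ⟨H.mul_mem h1 h2, e ▸ H.mul_mem h1' h2', ?_⟩
      rw [show (⟨x * z, H.mul_mem h1 h2⟩ : H) = ⟨x, h1⟩ * ⟨z, h2⟩ from rfl, map_mul,
        show E.A ⟨el 3 * (x * z) * el 3, e ▸ H.mul_mem h1' h2'⟩ =
          E.A (⟨el 3 * x * el 3, h1'⟩ * ⟨el 3 * z * el 3, h2'⟩) from congrArg E.A (Subtype.ext e.symm),
        map_mul, ← e1, ← e2]
      group
    · rintro _ ⟨k, hk, rfl⟩
      simp only [Set.mem_setOf_eq, List.mem_cons, List.not_mem_nil, or_false] at hk
      rcases hk with rfl | rfl | rfl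
      · exact ⟨yH.2, uyu.symm ▸ yH.2, gy.trans (congrArg E.A (Subtype.ext uyu.symm))⟩
      · exact ⟨hH.2, uhu.symm ▸ hH.2, gh.trans (congrArg E.A (Subtype.ext uhu.symm))⟩
      · exact ⟨cH.2, ucu.symm ▸ ccH.2, gc.trans (congrArg E.A (Subtype.ext ucu.symm))⟩
  · exfalso
    obtain ⟨⟨i', ri, p⟩, -, ht⟩ := List.any_eq_true.1 hw
    simp only [Bool.and_eq_true, Nat.blt_eq, Bool.not_eq_true'] at ht
    obtain ⟨⟨⟨-, hri⟩, hp⟩, hne⟩ := ht
    set r := relsJ.getD ri ([], 0) with hrdef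
    have hrm : r ∈ relsJ := by rw [hrdef, List.getD_eq_getElem _ _ hri]; exact List.getElem_mem hri
    have hrr := List.all_eq_true.1 hrel r hrm
    rw [Bool.and_eq_true] at hrr
    let lift : ℕ → ℕ → H := fun c k => if hk : [0, 2, c].getD k 999 ≠ 3 then ⟨el ([0, 2, c].getD k 999), el_mem_H hk⟩ else 1
    have hcoe : ∀ c, c ≠ 3 → ∀ k, ((lift c k : H) : Cfsg.Spor.Suz) = els3 c k := by
      intro c hc k
      have : [0, 2, c].getD k 999 ≠ 3 := by
        rcases k with _ | _ | _ | k <;> simp [hc]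
      simp only [lift, dif_pos this, els3]
    have hstep : ∀ k, g * E.A (lift 4 k) * g⁻¹ = E.A (lift (28 + i) k) := by
      rintro (_ | _ | _ | k)
      · exact gy
      · exact gh
      · refine hz.symm.trans (congrArg E.A (Subtype.ext ?_))
        rw [hcoe _ (by omega)]
        exact hi
      · have e9 : ∀ c, c ≠ 3 → lift c (k + 3) = 1 := fun c hc => by
          refine Subtype.ext ?_
          rw [hcoe c hc]
          exact el_999
        rw [e9 4 (by norm_num), e9 _ (by omega), map_one]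
        group
    have hw1 : ∀ c, c ≠ 3 → NetOf (netPow (r.1.flatMap fun k => netEl ([0, 2, c].getD k 999)) r.2)
        (phi ((evW (lift c) r.1 : H) : Cfsg.Spor.Suz) ^ r.2) := by
      intro c hc
      refine NetOf.pow ?_ _
      have : ((evW (lift c) r.1 : H) : Cfsg.Spor.Suz) = evW (els3 c) r.1 := by
        rw [← Subgroup.coe_subtype, map_evW]
        exact congrArg (fun f => evW f r.1) (funext (hcoe c hc))
      rw [this, map_evW]
      exact NetOf.flat (n := 3) (fun x _ => net_el _) hrr.1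
    have h4 : (evW (lift 4) r.1) ^ r.2 = 1 := by
      refine Subtype.ext (phi_injective ?_)
      rw [SubgroupClass.coe_pow, map_pow, Subgroup.coe_one, map_one]
      exact (hw1 4 (by norm_num)).eq_of_same NetOf.one hrr.2
    have hi' : (evW (lift (28 + i)) r.1) ^ r.2 = 1 := E.inj (by
      rw [map_pow, ← conj_evW _ _ hstep r.1, conj_pow, ← map_pow, h4, map_one, mul_one, mul_inv_cancel])
    have hfix := hw1 (28 + i) (by omega)
    rw [← map_pow, ← SubgroupClass.coe_pow, hi', Subgroup.coe_one, map_one] at hfix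
    have := applyNet_one_bit hfix rfl hp
    rw [sendsB, this, Nat.beq_refl] at hne
    exact absurd hne (by decide)

end Emb

end CfsgLib.SuzRankThree
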