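import Cfsg.Agent.Lib.SuzRankThree.Tools
import Cfsg.Agent.Lib.SuzRankThree.Tables

/-!
The named elements, their networks, and the orders of the point stabilisers.
-/
set_option autoImplicit false
set_option maxRecDepth 8000
set_option Elab.async false

namespace CfsgLib.SuzRankThree

open CfsgLib.Presented CfsgLib.Presented.Vec CfsgLib.OutSuz
open CfsgLib.Presented.SuzCosets (phi phi_ev rep_valid ev H)
open CfsgLib.Presented.SuzCert (rep)
open CfsgLib.Presented.SuzOrder (phi_injective)

/-- the named elements -/
noncomputable def el (k : ℕ) : Cfsg.Spor.Suz := evW ev (words.getD k [])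

/-- their networks -/
def netEl (k : ℕ) : List Stage := nets.getD k []

/-- the network agrees with the word -/
noncomputable def elOK (k : ℕ) : Bool :=
  (words.getD k []).all (fun y => Nat.blt y 7) &&
    (netOKN (netEl k) && sameNet (rep.netW (words.getD k [])) (netEl k))

theorem lengths_ok : (Nat.beq words.length 63 && Nat.beq nets.length 63) = true := by decide +kernel

theorem nets_ok0 : (List.range 9).all (fun k => elOK k) = true := by decide +kernel
theorem nets_ok1 : (List.range 2).all (fun k => elOK (9 + k)) = true := by decide +kernel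
theorem nets_ok1b : (List.range 7).all (fun k => elOK (11 + k)) = true := by decide +kernel
theorem nets_ok2 : (List.range 9).all (fun k => elOK (18 + k)) = true := by decide +kernel
theorem nets_ok3 : (List.range 9).all (fun k => elOK (27 + k)) = true := by decide +kernel
theorem nets_ok4 : (List.range 9).all (fun k => elOK (36 + k)) = true := by decide +kernel
theorem nets_ok5 : (List.range 18).all (fun k => elOK (45 + k)) = true := by decide +kernel

theorem el_ok {k : ℕ} (hk : k < 63) : elOK k = true := by
  have get : ∀ {o n : ℕ}, (List.range n).all (fun j => elOK (o + j)) = true → o ≤ k → k < o + n → elOK k = true := by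
    intro o n h h1 h2
    have := List.all_eq_true.1 h (k - o) (List.mem_range.2 (by omega))
    rwa [Nat.add_sub_cancel' h1] at this
  by_cases h : k < 9
  · exact List.all_eq_true.1 nets_ok0 k (List.mem_range.2 h)
  by_cases h : k < 11
  · exact get nets_ok1 (by omega) (by omega)
  by_cases h : k < 18
  · exact get nets_ok1b (by omega) (by omega)
  by_cases h : k < 27
  · exact get nets_ok2 (by omega) (by omega)
  by_cases h : k < 36
  · exact get nets_ok3 (by omega) (by omega)
  by_cases h : k < 45
  · exact get nets_ok4 (by omega) (by omega)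
  exact get nets_ok5 (by omega) (by omega)

theorem el_ge {k : ℕ} (hk : 63 ≤ k) : words.getD k [] = [] ∧ netEl k = [] := by
  have h := lengths_ok
  rw [Bool.and_eq_true] at h
  exact ⟨List.getD_eq_default _ _ (le_of_eq_of_le (Nat.eq_of_beq_eq_true h.1) hk),
    List.getD_eq_default _ _ (le_of_eq_of_le (Nat.eq_of_beq_eq_true h.2) hk)⟩

theorem net_el (k : ℕ) : NetOf (netEl k) (phi (el k)) := by
  rcases lt_or_ge k 63 with hk | hk
  · have hk' := el_ok hk
    rw [elOK, Bool.and_eq_true] at hk'
    exact (net_word hk'.1).of_same hk'.2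
  · rw [el, (el_ge hk).1, (el_ge hk).2, evW_nil, map_one]
    exact NetOf.one

/-- products of named elements -/
noncomputable def elW (w : List ℕ) : Cfsg.Spor.Suz := evW el w

/-- their networks -/
def flatN (w : List ℕ) : List Stage := w.flatMap netEl

theorem net_elW : ∀ w : List ℕ, NetOf (flatN w) (phi (elW w))
  | [] => by rw [elW, evW_nil, map_one]; exact NetOf.one
  | x :: w => by
    rw [elW, evW_cons, map_mul, flatN, List.flatMap_cons]
    exact (net_el x).mul (net_elW w)

theorem eq_of_nets {l l' : List Stage} {x y : Cfsg.Spor.Suz} (h : NetOf l (phi x)) (h' : NetOf l' (phi y))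
    (hs : sameNet l l' = true) : x = y := phi_injective (h.eq_of_same h' hs)

theorem eqW (w w' : List ℕ) (h : sameNet (flatN w) (flatN w') = true) : elW w = elW w' :=
  eq_of_nets (net_elW w) (net_elW w') h

theorem elW_two (a b : ℕ) : elW [a, b] = el a * el b := by simp [elW]
theorem elW_one (a : ℕ) : elW [a] = el a := by simp [elW]
theorem elW_append (w w' : List ℕ) : elW (w ++ w') = elW w * elW w' := evW_append el w w'
theorem elW_replicate (a n : ℕ) : elW (List.replicate n a) = el a ^ n := by
  induction n with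
  | zero => simp [elW]
  | succ n ih => rw [List.replicate_succ, pow_succ', elW, evW_cons, ← ih]; rfl

/-- the point 47 -/
abbrev q47 : Fin rep.N := ⟨47, by decide⟩
/-- the point 304 -/
abbrev q304 : Fin rep.N := ⟨304, by decide⟩
/-- the point 1700 -/
abbrev q1700 : Fin rep.N := ⟨1700, by decide⟩
/-- the point 72 -/
abbrev q72 : Fin rep.N := ⟨72, by decide⟩
/-- the point 677 -/
abbrev q677 : Fin rep.N := ⟨677, by decide⟩
/-- the point 420 -/
abbrev q420 : Fin rep.N := ⟨420, by decide⟩
/-- the point 1 -/
abbrev q1 : Fin rep.N := ⟨1, by decide⟩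

theorem el_fix0_ok : (List.range 63).all (fun k => Nat.beq k 3 || sendsB (netEl k) 0 0) = true := by
  decide +kernel

theorem el_mem_H {k : ℕ} (hk : k ≠ 3) : el k ∈ H := by
  rcases lt_or_ge k 63 with h | h
  · have := List.all_eq_true.1 el_fix0_ok k (List.mem_range.2 h)
    rw [Bool.or_eq_true] at this
    rcases this with e | e
    · exact absurd (Nat.eq_of_beq_eq_true e) hk
    · exact mem_H_of_fix ((net_el k).sends (y := p0) (x := p0) e)
  · rw [el, (el_ge h).1, evW_nil]
    exact H.one_mem

theorem elW_mem {K : Subgroup Cfsg.Spor.Suz} : ∀ {w : List ℕ}, (∀ k ∈ w, el k ∈ K) → elW w ∈ K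
  | [], _ => K.one_mem
  | x :: w, h => by
    rw [elW, evW_cons]
    exact K.mul_mem (h x List.mem_cons_self) (elW_mem fun k hk => h k (List.mem_cons_of_mem _ hk))

theorem sendsW {w : List ℕ} {x y : Fin rep.N} (h : sendsB (flatN w) x y = true) : phi (elW w) x = y :=
  (net_elW w).sends h

theorem sendsE {k : ℕ} {x y : Fin rep.N} (h : sendsB (netEl k) x y = true) : phi (el k) x = y :=
  (net_el k).sends h

theorem letters_H : ∀ l ∈ (List.range 6).map rep.net, ∃ g ∈ H, NetOf l (phi g) := by
  intro l hl
  obtain ⟨x, hx, rfl⟩ := List.mem_map.1 hl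
  rw [List.mem_range] at hx
  exact ⟨ev x, letter_mem_H hx, net_letter (Nat.lt_succ_of_lt hx)⟩

theorem D0_cover : Nat.beq (Nat.land (grow ((List.range 6).map rep.net) (one1 47) (rounds.getD 0 0)) D0) D0 = true ∧
    Nat.beq (Nat.land (grow ((List.range 6).map rep.net) (one1 1) (rounds.getD 1 0)) D1) D1 = true ∧
    Nat.beq (bitCount D0 rep.N) 416 = true ∧ Nat.beq (bitCount D1 rep.N) 1365 = true := by decide +kernel

theorem sub_of_land {a b : ℕ} (h : Nat.beq (Nat.land a b) b = true) {j : ℕ} (hj : b.testBit j = true) :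
    a.testBit j = true := by
  have := congrArg (fun x => x.testBit j) (Nat.eq_of_beq_eq_true h)
  rw [show ∀ a b : ℕ, Nat.land a b = a &&& b from fun _ _ => rfl] at this
  simpa [Nat.testBit_and, hj] using this

theorem D0_trans {j : Fin rep.N} (h : D0.testBit j = true) : ∃ g ∈ H, phi g q47 = j :=
  grow_one (p := q47) letters_H (sub_of_land D0_cover.1 h)

theorem D1_trans {j : Fin rep.N} (h : D1.testBit j = true) : ∃ g ∈ H, phi g q1 = j :=
  grow_one (p := q1) letters_H (sub_of_land D0_cover.2.1 h)

theorem D0_q47 : D0.testBit q47 = true := by decide +kernel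
theorem D1_q1 : D1.testBit q1 = true := by decide +kernel
theorem D1_q677 : D1.testBit q677 = true := by decide +kernel

theorem card_stab_of {p : Fin rep.N} {M n : ℕ} (hinv : ∀ g ∈ H, ∀ j, M.testBit (phi g j) = M.testBit j)
    (hp : M.testBit p = true) (ht : ∀ j : Fin rep.N, M.testBit j = true → ∃ g ∈ H, phi g p = j)
    (hn : Nat.beq (bitCount M rep.N) n = true) :
    n * Nat.card (H ⊓ St p : Subgroup Cfsg.Spor.Suz) = 251596800 := by
  have h := card_of_orbit (K := H) (p := p) (fun g hg => by rw [hinv g hg, hp]) ht (Nat.eq_of_beq_eq_true hn)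
  rw [← h, SuzG2.card_H]

theorem card_stab_D0 {p : Fin rep.N} (hp : D0.testBit p = true) :
    Nat.card (H ⊓ St p : Subgroup Cfsg.Spor.Suz) = 604800 := by
  obtain ⟨a, ha, rfl⟩ := D0_trans hp
  have := card_stab_of (fun g hg j => D0_inv hg j) hp (fun j hj => by
    obtain ⟨b, hb, rfl⟩ := D0_trans hj
    exact ⟨b * a⁻¹, H.mul_mem hb (H.inv_mem ha), by
      rw [map_mul, map_inv, Equiv.Perm.mul_apply, Equiv.Perm.inv_def, Equiv.symm_apply_apply]⟩) D0_cover.2.2.1
  omega

theorem card_stab_D1 {p : Fin rep.N} (hp : D1.testBit p = true) :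
    Nat.card (H ⊓ St p : Subgroup Cfsg.Spor.Suz) = 184320 := by
  obtain ⟨a, ha, rfl⟩ := D1_trans hp
  have := card_stab_of (fun g hg j => D1_inv hg j) hp (fun j hj => by
    obtain ⟨b, hb, rfl⟩ := D1_trans hj
    exact ⟨b * a⁻¹, H.mul_mem hb (H.inv_mem ha), by
      rw [map_mul, map_inv, Equiv.Perm.mul_apply, Equiv.Perm.inv_def, Equiv.symm_apply_apply]⟩) D0_cover.2.2.2
  omega

theorem finite_suz : Finite Cfsg.Spor.Suz :=
  Nat.finite_of_card_ne_zero (by rw [SuzOrder.card_eq]; norm_num)

/-! ### Identities -/

theorem y_seven : el 0 ^ 7 = 1 := by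
  rw [← elW_replicate]; exact eqW (List.replicate 7 0) [] (by decide +kernel)

theorem w_three : el 1 ^ 3 = 1 := by
  rw [← elW_replicate]; exact eqW (List.replicate 3 1) [] (by decide +kernel)

theorem h_six : el 2 ^ 6 = 1 := by
  rw [← elW_replicate]; exact eqW (List.replicate 6 2) [] (by decide +kernel)

theorem u_sq : el 3 * el 3 = 1 := by
  rw [← elW_two]; exact eqW [3, 3] [] (by decide +kernel)

theorem w_y : el 1 * el 0 = el 0 * el 1 := by
  rw [← elW_two, ← elW_two]; exact eqW _ _ (by decide +kernel)

theorem u_y : el 3 * el 0 = el 0 * el 3 := by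
  rw [← elW_two, ← elW_two]; exact eqW _ _ (by decide +kernel)

theorem u_h : el 3 * el 2 = el 2 * el 3 := by
  rw [← elW_two, ← elW_two]; exact eqW _ _ (by decide +kernel)

theorem h_y : el 2 * el 0 = el 0 ^ 3 * el 2 := by
  rw [← elW_two, ← elW_replicate, ← elW_one, ← elW_append]; exact eqW _ _ (by decide +kernel)

theorem orderOf_y : orderOf (el 0) = 7 := by
  have : Fact (Nat.Prime 7) := ⟨by norm_num⟩
  refine orderOf_eq_prime y_seven fun h => ?_
  have h1 := applyNet_one_bit (net_el 0) (by rw [h, map_one]) (p := 1) (by decide)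
  have h2 : Nat.beq (applyNet (netEl 0) (one1 1)) (one1 1) = false := by decide +kernel
  rw [h1, Nat.beq_refl] at h2
  exact absurd h2 (by decide)

end CfsgLib.SuzRankThree
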