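import Cfsg.Agent.Lib.SuzRankThree.JClass

/-!
A transitive group of degree 1782 with a point stabiliser isomorphic to the one in the Suzuki group.
-/
set_option autoImplicit false
set_option maxRecDepth 8000

namespace CfsgLib.SuzRankThree

open CfsgLib.Presented CfsgLib.Presented.Vec CfsgLib.OutSuz
open CfsgLib.Presented.SuzCosets (phi phi_ev rep_valid ev H)
open CfsgLib.Presented.SuzCert (rep)

/-- The point stabiliser of a transitive group of degree 1782 with suborbits 416 and 1365. -/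
structure Emb {Ω : Type*} (G : Subgroup (Equiv.Perm Ω)) (a : Ω) where
  A : H →* Equiv.Perm Ω
  inj : Function.Injective A
  mem : ∀ x, A x ∈ G
  fix : ∀ x, A x a = a
  surj : ∀ s ∈ G, s a = a → ∃ x, A x = s
  card : Nat.card Ω = 1782
  trans : ∀ p q : Ω, ∃ s ∈ G, s p = q
  b : Ω
  c : Ω
  hb : (Set.range fun x => A x b).ncard = 416
  hc : (Set.range fun x => A x c).ncard = 1365

namespace Emb

variable {Ω : Type*} {G : Subgroup (Equiv.Perm Ω)} {a : Ω} (E : Emb G a)

include E

/-- the elements fixing a point -/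
noncomputable def stabOf (p : Ω) : Subgroup Cfsg.Spor.Suz :=
  ((MulAction.stabilizer (Equiv.Perm Ω) p).comap E.A).map H.subtype

theorem mem_stabOf {p : Ω} {x : Cfsg.Spor.Suz} :
    x ∈ E.stabOf p ↔ ∃ h : x ∈ H, E.A ⟨x, h⟩ p = p := by
  constructor
  · rintro ⟨y, hy, rfl⟩
    exact ⟨y.2, hy⟩
  · rintro ⟨h, e⟩
    exact ⟨⟨x, h⟩, e, rfl⟩

theorem stabOf_le (p : Ω) : E.stabOf p ≤ H := Subgroup.map_subtype_le _

theorem coe_mem_stabOf {p : Ω} (x : H) : (x : Cfsg.Spor.Suz) ∈ E.stabOf p ↔ E.A x p = p := by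
  rw [mem_stabOf]
  exact ⟨fun ⟨_, e⟩ => e, fun e => ⟨x.2, e⟩⟩

theorem finite : Finite Ω := Nat.finite_of_card_ne_zero (by rw [E.card]; norm_num)

theorem card_orbit (p : Ω) :
    (Set.range fun x => E.A x p).ncard * Nat.card (E.stabOf p) = 251596800 := by
  let _ : MulAction H Ω := MulAction.compHom _ E.A
  have := finite_suz
  have h1 : Nat.card (MulAction.stabilizer H p) = Nat.card (E.stabOf p) :=
    Nat.card_congr (Equiv.trans (Equiv.subtypeEquivRight fun _ => Iff.rfl)
      (Subgroup.equivMapOfInjective ((MulAction.stabilizer (Equiv.Perm Ω) p).comap E.A) H.subtype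
        Subtype.val_injective).toEquiv)
  have h2 : (Set.range fun x => E.A x p).ncard = Nat.card (MulAction.orbit H p) := by
    rw [← Nat.card_coe_set_eq]
    rfl
  have h3 := (MulAction.stabilizer H p).card_eq_card_quotient_mul_card_subgroup
  rw [SuzG2.card_H] at h3
  rw [h2, ← h1, Nat.card_congr (MulAction.orbitEquivQuotientStabilizer H p), ← h3]

theorem range_eq {p q : Ω} (h : q ∈ Set.range fun x => E.A x p) :
    (Set.range fun x => E.A x q) = Set.range fun x => E.A x p := by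
  obtain ⟨x0, rfl⟩ := h
  ext r
  constructor
  · rintro ⟨x, rfl⟩
    exact ⟨x * x0, by simp [map_mul]⟩
  · rintro ⟨x, rfl⟩
    exact ⟨x * x0⁻¹, by simp [map_mul]⟩

theorem range_a : (Set.range fun x => E.A x a) = {a} := by
  ext r
  constructor
  · rintro ⟨x, rfl⟩
    exact E.fix x
  · rintro rfl
    exact ⟨1, E.fix 1⟩

theorem self_mem (p : Ω) : p ∈ Set.range fun x => E.A x p := ⟨1, by simp⟩

theorem cases (p : Ω) : p = a ∨ (p ∈ Set.range fun x => E.A x E.b) ∨ p ∈ Set.range fun x => E.A x E.c := by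
  have := E.finite
  set X := Set.range fun x => E.A x E.b
  set Y := Set.range fun x => E.A x E.c
  have hXY : Disjoint X Y := Set.disjoint_left.2 fun r h1 h2 => by
    have := (congrArg Set.ncard (E.range_eq h1)).symm.trans (congrArg Set.ncard (E.range_eq h2))
    rw [E.hb, E.hc] at this
    omega
  have ha : a ∉ X ∪ Y := by
    rintro (h | h)
    · have := congrArg Set.ncard (E.range_eq h)
      rw [E.range_a, Set.ncard_singleton, E.hb] at this
      omega
    · have := congrArg Set.ncard (E.range_eq h)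
      rw [E.range_a, Set.ncard_singleton, E.hc] at this
      omega
  have hcard : (insert a (X ∪ Y)).ncard = (Set.univ : Set Ω).ncard := by
    rw [Set.ncard_insert_of_notMem ha, Set.ncard_union_eq hXY, E.hb, E.hc, Set.ncard_univ, E.card]
  have := (Set.eq_of_subset_of_ncard_le (Set.subset_univ _) hcard.ge).symm ▸ Set.mem_univ p
  simpa using this

theorem card_stab_a : Nat.card (MulAction.stabilizer G a) = 251596800 := by
  rw [← SuzG2.card_H]
  refine (Nat.card_congr (Equiv.ofBijective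
    (fun x : H => (⟨⟨E.A x, E.mem x⟩, E.fix x⟩ : MulAction.stabilizer G a)) ⟨?_, ?_⟩)).symm
  · intro x y e
    exact E.inj (congrArg (fun s : MulAction.stabilizer G a => ((s : G) : Equiv.Perm Ω)) e)
  · rintro ⟨⟨s, hs⟩, h⟩
    obtain ⟨x, rfl⟩ := E.surj s hs h
    exact ⟨x, rfl⟩

theorem card_G : Nat.card G = 1782 * 251596800 := by
  have := E.finite
  have h := (MulAction.stabilizer G a).card_eq_card_quotient_mul_card_subgroup
  rw [← Nat.card_congr (MulAction.orbitEquivQuotientStabilizer G a), E.card_stab_a] at h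
  have hu : MulAction.orbit G a = Set.univ := Set.eq_univ_of_forall fun q => by
    obtain ⟨s, hs, e⟩ := E.trans a q
    exact ⟨⟨s, hs⟩, e⟩
  rw [hu, Nat.card_congr (Equiv.Set.univ Ω), E.card] at h
  exact h

theorem ne_ab : E.b ≠ a := fun e => by
  have := E.hb
  rw [e, E.range_a, Set.ncard_singleton] at this
  omega

/-- the distinguished neighbour can be taken with stabiliser fixing 47 -/
theorem exists_base : ∃ E' : Emb G a, E'.A = E.A ∧
    ∀ x : H, E'.A x E'.b = E'.b ↔ phi x q47 = q47 := by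
  have hcard : Nat.card (E.stabOf E.b) = 604800 := by
    have := E.card_orbit E.b
    rw [E.hb] at this
    omega
  obtain ⟨q, hq, hfix⟩ := good_of_card (E.stabOf_le _) hcard
  obtain ⟨h, hh, rfl⟩ := D0_trans hq
  have := finite_suz
  have heq : E.stabOf E.b = H ⊓ St (phi h q47) :=
    Subgroup.eq_of_le_of_card_ge (fun x hx => ⟨E.stabOf_le _ hx, hfix x hx⟩)
      (by rw [hcard, card_stab_D0 hq])
  refine ⟨{ E with
    b := E.A ⟨h, hh⟩⁻¹ E.b
    hb := by rw [E.range_eq ⟨_, rfl⟩]; exact E.hb }, rfl, fun x => ?_⟩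
  show E.A x (E.A ⟨h, hh⟩⁻¹ E.b) = E.A ⟨h, hh⟩⁻¹ E.b ↔ _
  have h1 : E.A x (E.A ⟨h, hh⟩⁻¹ E.b) = E.A ⟨h, hh⟩⁻¹ E.b ↔
      E.A (⟨h, hh⟩ * x * ⟨h, hh⟩⁻¹) E.b = E.b := by
    rw [map_mul, map_mul, map_inv, Equiv.Perm.mul_apply, Equiv.Perm.mul_apply]
    exact (Equiv.eq_symm_apply _)
  rw [h1, ← coe_mem_stabOf, heq, Subgroup.mem_inf, Subgroup.coe_mul, Subgroup.coe_mul, Subgroup.coe_inv,
    mem_St, map_mul, map_mul, map_inv, Equiv.Perm.mul_apply, Equiv.Perm.mul_apply, Equiv.Perm.inv_def,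
    Equiv.symm_apply_apply, (phi h).injective.eq_iff]
  exact and_iff_right (H.mul_mem (H.mul_mem hh x.2) (H.inv_mem hh))

/-- the orbitals are self-paired -/
theorem exists_swap : ∃ g ∈ G, g a = E.b ∧ g E.b = a := by
  obtain ⟨g1, hg1, e1⟩ := E.trans a E.b
  set p := g1⁻¹ a with hp
  have hp1 : g1 p = a := Equiv.apply_symm_apply g1 a
  have := finite_suz
  have hle : Nat.card (E.stabOf E.b) ≤ Nat.card (E.stabOf p) := by
    have key : ∀ x : H, E.A x E.b = E.b → ∃ z : H, E.A z = g1⁻¹ * E.A x * g1 ∧ E.A z p = p := by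
      intro x hx
      obtain ⟨z, hz⟩ := E.surj (g1⁻¹ * E.A x * g1) (G.mul_mem (G.mul_mem (G.inv_mem hg1) (E.mem x)) hg1)
        (by rw [Equiv.Perm.mul_apply, Equiv.Perm.mul_apply, e1, hx, ← e1, Equiv.Perm.inv_def,
          Equiv.symm_apply_apply])
      refine ⟨z, hz, ?_⟩
      rw [hz, Equiv.Perm.mul_apply, Equiv.Perm.mul_apply, hp1, E.fix]
    choose f hf hf' using key
    refine Nat.card_le_card_of_injective
      (fun x : E.stabOf E.b => (⟨f ⟨x, E.stabOf_le _ x.2⟩ ((E.coe_mem_stabOf ⟨_, E.stabOf_le _ x.2⟩).1 x.2),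
        (E.coe_mem_stabOf _).2 (hf' _ _)⟩ : E.stabOf p)) ?_
    intro x x' e
    have e0 := congrArg Subtype.val e
    simp only at e0
    have e' := congrArg E.A (Subtype.ext e0)
    rw [hf, hf, mul_left_inj, mul_right_inj] at e'
    exact Subtype.ext (congrArg (fun t : H => (t : Cfsg.Spor.Suz)) (E.inj e'))
  rcases E.cases p with h | h | h
  · rw [h, e1] at hp1
    exact absurd hp1 E.ne_ab
  · obtain ⟨x, hx⟩ := h
    refine ⟨g1 * E.A x, G.mul_mem hg1 (E.mem x), ?_, ?_⟩
    · rw [Equiv.Perm.mul_apply, E.fix, e1]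
    · rw [Equiv.Perm.mul_apply]
      exact (congrArg g1 hx).trans hp1
  · exfalso
    have h1 := E.card_orbit p
    have h2 := E.card_orbit E.b
    rw [E.range_eq h, E.hc] at h1
    rw [E.hb] at h2
    omega

end Emb

end CfsgLib.SuzRankThree
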