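import Cfsg.Agent.Lib.SuzRankThree.Config

/-!
The group is the image of the presented Suzuki group.
-/
set_option autoImplicit false
set_option maxRecDepth 8000

namespace CfsgLib.SuzRankThree

open scoped Pointwise
open CfsgLib.Presented CfsgLib.Presented.Vec CfsgLib.OutSuz
open CfsgLib.Presented.SuzCosets (phi phi_ev rep_valid ev H)
open CfsgLib.Presented.SuzCert (rep)
open CfsgLib.Presented.SuzOrder (phi_injective)

/-- the element moving 47 to 72 -/
noncomputable abbrev h2H : H := ⟨el 40, el_mem_H (by decide)⟩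

/-- networks of the two conjugated elements -/
def tNets : List (List Stage) := [flatN [3, 12, 3], flatN [3, 13, 3]]

theorem iso_ok : (sendsB (netEl 3) 0 47 && sendsB (netEl 3) 47 0 && sendsB (netEl 3) 304 1700 &&
    sendsB (netEl 3) 72 677 && sendsB (netEl 40) 47 72 && sendsB (netEl 12) 72 72 && sendsB (netEl 13) 72 72 &&
    Nat.beq (Nat.land (Nat.land (fixMask (flatN [3, 12, 3])) (fixMask (flatN [3, 13, 3]))) D0)
      (Nat.lor (one1 47) (one1 420)) &&
    Nat.beq (Nat.land (Nat.land (fixMask (flatN [3, 12, 3])) (fixMask (flatN [3, 13, 3]))) D1) (one1 677)) = true := by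
  decide +kernel

theorem u_pts : phi (el 3) p0 = q47 ∧ phi (el 3) q47 = p0 ∧ phi (el 3) q304 = q1700 ∧ phi (el 3) q72 = q677 ∧
    phi (el 40) q47 = q72 := by
  have h := iso_ok
  simp only [Bool.and_eq_true] at h
  obtain ⟨⟨⟨⟨⟨⟨⟨⟨h1, h2⟩, h3⟩, h4⟩, h5⟩, -⟩, -⟩, -⟩, -⟩ := h
  exact ⟨sendsE h1, sendsE h2, sendsE h3, sendsE h4, sendsE h5⟩

theorem k_y_ne : ((List.range 6).all fun i =>
    !(Nat.beq (sig (netY (i + 1) ++ netEl 9)) (sig (netEl 9 ++ netY (i + 1))))) = true := by decide +kernel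

theorem y_pow_k {i : ℕ} (h : el 0 ^ i * el 9 = el 9 * el 0 ^ i) : el 0 ^ i = 1 := by
  rw [← pow_y_mod] at h ⊢
  have hi := Nat.mod_lt i (show 7 > 0 by norm_num)
  rcases hm : i % 7 with _ | m
  · rw [pow_zero]
  · rw [hm] at h hi
    exfalso
    have hk := List.all_eq_true.1 k_y_ne m (List.mem_range.2 (by omega))
    rw [sig_eq (π := phi (el 0 ^ (m + 1) * el 9)) (by rw [map_mul]; exact (net_Y hi).mul (net_el 9))
      (l' := netEl 9 ++ netY (m + 1)) (by rw [h, map_mul]; exact (net_el 9).mul (net_Y hi)), Nat.beq_refl] at hk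
    exact absurd hk (by decide)

theorem orbit_ok : (coverOK rep.N tOrbits (Nat.xor (ones rep.N) D1) &&
    tOrbits.all (fun O => Nat.blt O.rep rep.N &&
      Nat.beq (Nat.land (grow tNets (one1 O.rep) O.rounds) (ones rep.N)) O.bits) &&
    (sublistSums (tOrbits.map HOrbit.size)).all (fun t => Nat.ble t 1 || !(Nat.beq (45 % t) 0))) = true := by
  decide +kernel

theorem cover_ok : (Nat.beq (Nat.land (grow ([0, 2, 4].map netEl) (applyNet (netEl 1 ++ netEl 3).reverse D0)
      (rounds.getD 3 0)) D1) D1 &&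
    Nat.beq (Nat.land (grow ((List.range 6).map rep.net ++ [netEl 3]) (one1 0) (rounds.getD 4 0)) (ones rep.N))
      (ones rep.N)) = true := by decide +kernel

theorem uwu : el 3 * el 1 * el 3 = el 1 * el 1 * el 3 * el 1 * el 1 := by
  have := eqW [3, 1, 3] [1, 1, 3, 1, 1] (by decide +kernel)
  simpa [elW, mul_assoc] using this

theorem x_steps : el 10 * el 1 = el 1 * el 3 * el 9 * el 3 ∧ el 11 * el 1 = el 1 * el 3 * el 10 * el 3 ∧
    el 9 * el 1 = el 1 * el 3 * el 11 * el 3 := by
  refine ⟨?_, ?_, ?_⟩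
  · have := eqW [10, 1] [1, 3, 9, 3] (by decide +kernel)
    simpa [elW, mul_assoc] using this
  · have := eqW [11, 1] [1, 3, 10, 3] (by decide +kernel)
    simpa [elW, mul_assoc] using this
  · have := eqW [9, 1] [1, 3, 11, 3] (by decide +kernel)
    simpa [elW, mul_assoc] using this

theorem closure_H_u : Subgroup.closure ((H : Set Cfsg.Spor.Suz) ∪ {el 3}) = ⊤ := by
  set K := Subgroup.closure ((H : Set Cfsg.Spor.Suz) ∪ {el 3})
  refine eq_top_iff.2 fun s _ => ?_
  have h := cover_ok
  rw [Bool.and_eq_true] at h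
  obtain ⟨k, hk, e⟩ := grow_one (K := K) (p := p0) (fun l hl => by
    rcases List.mem_append.1 hl with hl | hl
    · obtain ⟨g, hg, hn⟩ := letters_H l hl
      exact ⟨g, Subgroup.subset_closure (Or.inl hg), hn⟩
    · rw [List.mem_singleton] at hl
      subst hl
      exact ⟨el 3, Subgroup.subset_closure (Or.inr rfl), net_el 3⟩) (sub_of_land h.2 (testBit_all (phi s p0)))
  have hks : k⁻¹ * s ∈ H := mem_H_of_fix (by
    rw [map_mul, map_inv, Equiv.Perm.mul_apply, ← e, Equiv.Perm.inv_def, Equiv.symm_apply_apply])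
  have := K.mul_mem hk (Subgroup.subset_closure (Or.inl hks))
  rwa [mul_inv_cancel_left] at this

namespace Emb

variable {Ω : Type*} {G : Subgroup (Equiv.Perm Ω)} {a : Ω} {E : Emb G a}

/-- Everything that has been normalised. -/
structure Norm (E : Emb G a) where
  g : Equiv.Perm Ω
  based : E.Based
  swap : Swap E g
  agree : ∀ x ∈ C3, Agree E g x

variable (M : Norm E)

theorem ga : M.g a = E.b := M.swap.2.1

theorem gb : M.g E.b = a := M.swap.2.2.1

theorem gP : M.g (E.P 1) = E.P 2 ∧ M.g (E.P 2) = E.P 1 := swap_P M.based M.swap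

theorem agree_eq {x x' : H} (hx : (x : Cfsg.Spor.Suz) ∈ C3)
    (e : (x' : Cfsg.Spor.Suz) = el 3 * x * el 3) : M.g * E.A x = E.A x' * M.g := by
  obtain ⟨h, h', e'⟩ := M.agree x hx
  rw [mul_inv_eq_iff_eq_mul] at e'
  rw [show x' = ⟨el 3 * (x : Cfsg.Spor.Suz) * el 3, h'⟩ from Subtype.ext e]
  exact e'

theorem u_conj_H {x : H} (hx : (x : Cfsg.Spor.Suz) ∈ C3) : el 3 * (x : Cfsg.Spor.Suz) * el 3 ∈ H :=
  (C3_le (C3_u hx)).1

theorem agree_apply {x : H} (hx : (x : Cfsg.Spor.Suz) ∈ C3) (p : Ω) :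
    M.g (E.A x p) = E.A ⟨_, u_conj_H hx⟩ (M.g p) := by
  rw [← Equiv.Perm.mul_apply, agree_eq M hx (x' := ⟨_, u_conj_H hx⟩) rfl, Equiv.Perm.mul_apply]

theorem g_sq : M.g * M.g = 1 := by
  obtain ⟨hg, hga, hgb, gy⟩ := M.swap
  obtain ⟨z, hz⟩ := E.surj (M.g * M.g) (G.mul_mem hg hg) (by rw [Equiv.Perm.mul_apply, hga, hgb])
  have hz47 : phi z q47 = q47 := (M.based z).1 (by rw [hz, Equiv.Perm.mul_apply, hgb, hga])
  have cy : Commute M.g (E.A yH) := mul_inv_eq_iff_eq_mul.1 gy
  have hzy : z * yH = yH * z := E.inj (by rw [map_mul, map_mul, hz]; exact (cy.mul_left cy).eq)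
  have hk : (el 9) ∈ C3 := mem_C3 (by decide)
  let k' : H := ⟨_, u_conj_H (x := kH) hk⟩
  have e1 : M.g * E.A kH = E.A k' * M.g := agree_eq M hk rfl
  have e2 : M.g * E.A k' = E.A kH * M.g := agree_eq M (x := k') (x' := kH) (C3_u hk) (by
    show el 9 = el 3 * (el 3 * el 9 * el 3) * el 3
    rw [← mul_assoc, ← mul_assoc, u_sq, one_mul, mul_assoc, u_sq, mul_one])
  have hzk : z * kH = kH * z := E.inj (by
    rw [map_mul, map_mul, hz, mul_assoc, e1, ← mul_assoc, e2, mul_assoc])
  obtain ⟨i, hi⟩ := centY z.2 hz47 (by simpa using congrArg (fun t : H => (t : Cfsg.Spor.Suz)) hzy)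
  have hik : el 0 ^ i * el 9 = el 9 * el 0 ^ i := by
    rw [← hi]; simpa using congrArg (fun t : H => (t : Cfsg.Spor.Suz)) hzk
  rw [← hz, show z = 1 from Subtype.ext (hi.trans (y_pow_k hik)), map_one]

theorem gwg : M.g * E.A wH * M.g = E.A (wH ^ 2) * M.g * E.A (wH ^ 2) := by
  set W := E.A wH with hW
  obtain ⟨hg, hga, hgb, gy⟩ := M.swap
  have hWa : W a = a := E.fix _
  have hW1 : W E.b = E.P 1 := by rw [P, pow_one]
  have hW3 : W (E.P 2) = E.b := by
    rw [P, ← Equiv.Perm.mul_apply, ← map_mul, ← pow_succ', wH_three, map_one, Equiv.Perm.one_apply]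
  obtain ⟨hP1, hP2⟩ := gP M
  obtain ⟨z, hz⟩ := E.surj (W * M.g * W * M.g * W * M.g)
    (G.mul_mem (G.mul_mem (G.mul_mem (G.mul_mem (G.mul_mem (E.mem _) hg) (E.mem _)) hg) (E.mem _)) hg)
    (by simp only [Equiv.Perm.mul_apply]; rw [hga, hW1, hP1, hW3, hgb, hWa])
  have hz47 : phi z q47 = q47 := (M.based z).1 (by
    rw [hz]; simp only [Equiv.Perm.mul_apply]; rw [hgb, hWa, hga, hW1, hP1, hW3])
  have cy : Commute M.g (E.A yH) := mul_inv_eq_iff_eq_mul.1 gy
  have cw : Commute W (E.A yH) := (show Commute wH yH from wy).map E.A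
  have hzy : z * yH = yH * z := E.inj (by
    rw [map_mul, map_mul, hz]
    exact (((((cw.mul_left cy).mul_left cw).mul_left cy).mul_left cw).mul_left cy).eq)
  have step : ∀ {x x' : H}, (x : Cfsg.Spor.Suz) ∈ C3 →
      (x' : Cfsg.Spor.Suz) * el 1 = el 1 * el 3 * x * el 3 → W * M.g * E.A x = E.A x' * (W * M.g) := by
    intro x x' hx e
    rw [mul_assoc, agree_eq M hx (x' := ⟨_, u_conj_H hx⟩) rfl, ← mul_assoc, ← mul_assoc, hW, ← map_mul,
      ← map_mul, show wH * ⟨_, u_conj_H hx⟩ = x' * wH from Subtype.ext (by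
        show el 1 * (el 3 * (x : Cfsg.Spor.Suz) * el 3) = (x' : Cfsg.Spor.Suz) * el 1
        rw [e]; simp only [mul_assoc])]
  obtain ⟨e1, e2, e3⟩ := x_steps
  let x1 : H := ⟨el 10, el_mem_H (by decide)⟩
  let x2 : H := ⟨el 11, el_mem_H (by decide)⟩
  have s1 := step (x := kH) (x' := x1) (mem_C3 (by decide)) e1
  have s2 := step (x := x1) (x' := x2) (mem_C3 (k := 10) (by decide)) e2
  have s3 := step (x := x2) (x' := kH) (mem_C3 (k := 11) (by decide)) e3
  have hzk : z * kH = kH * z := E.inj (by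
    rw [map_mul, map_mul, hz,
      show W * M.g * W * M.g * W * M.g * E.A kH = W * M.g * (W * M.g * (W * M.g * E.A kH)) by
        simp only [mul_assoc], s1, ← mul_assoc (W * M.g) (E.A x1), s2, mul_assoc (E.A x2),
      ← mul_assoc (W * M.g) (E.A x2), s3]
    simp only [mul_assoc])
  obtain ⟨i, hi⟩ := centY z.2 hz47 (by simpa using congrArg (fun t : H => (t : Cfsg.Spor.Suz)) hzy)
  have hik : el 0 ^ i * el 9 = el 9 * el 0 ^ i := by
    rw [← hi]; simpa using congrArg (fun t : H => (t : Cfsg.Spor.Suz)) hzk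
  rw [show z = 1 from Subtype.ext (hi.trans (y_pow_k hik)), map_one] at hz
  have hg' : M.g⁻¹ = M.g := inv_eq_of_mul_eq_one_right (g_sq M)
  have hW2 : E.A (wH ^ 2) = W⁻¹ := by
    rw [← map_inv]
    refine congrArg E.A (eq_inv_of_mul_eq_one_left ?_)
    rw [← pow_succ, wH_three]
  calc M.g * W * M.g = W⁻¹ * (W * M.g * W * M.g * W * M.g) * M.g⁻¹ * W⁻¹ := by group
    _ = E.A (wH ^ 2) * M.g * E.A (wH ^ 2) := by rw [← hz, mul_one, hg', hW2]

/-- the point attached to 72 -/
noncomputable def c0 (E : Emb G a) : Ω := E.A h2H E.b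

/-- the point attached to 677 -/
noncomputable def d (M : Norm E) : Ω := M.g (c0 E)

/-- a conjugated element -/
noncomputable def tH (k : ℕ) (hk : el k ∈ C3) : H := ⟨el 3 * el k * el 3, (C3_le (C3_u hk)).1⟩

theorem t_fix {k : ℕ} (hk : el k ∈ C3) (h72 : phi (el k) q72 = q72) : E.A (tH k hk) (d M) = d M := by
  have e := agree_apply M (x := ⟨el k, (C3_le hk).1⟩) hk (c0 E)
  have hfix : E.A ⟨el k, (C3_le hk).1⟩ (c0 E) = c0 E := by
    rw [c0, ← Equiv.Perm.mul_apply, ← map_mul, pt_iff M.based, Subgroup.coe_mul, map_mul,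
      Equiv.Perm.mul_apply, u_pts.2.2.2.2, h72]
  rw [hfix] at e
  exact e.symm

theorem twelve : ∀ k, k = 12 ∨ k = 13 → el k ∈ C3 ∧ phi (el k) q72 = q72 := by
  have h := iso_ok
  simp only [Bool.and_eq_true] at h
  rintro k (rfl | rfl)
  · exact ⟨mem_C3 (by decide), sendsE h.1.1.1.2⟩
  · exact ⟨mem_C3 (by decide), sendsE h.1.1.2⟩

theorem net_t (k : ℕ) : NetOf (flatN [3, k, 3]) (phi (el 3 * el k * el 3)) := by
  have := net_elW [3, k, 3]
  simpa [elW, mul_assoc] using this

theorem d_far : d M ∈ Set.range fun x => E.A x E.c := by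
  rcases E.cases (d M) with h | h | h
  · exfalso
    have : c0 E = E.b := M.g.injective (h.trans (gb M).symm)
    rw [c0, M.based, u_pts.2.2.2.2] at this
    exact absurd this (by decide)
  · exfalso
    obtain ⟨x, hx⟩ := h
    simp only at hx
    have hq : ∀ k (hk : k = 12 ∨ k = 13),
        phi (el 3 * el k * el 3) (phi x q47) = phi x q47 := by
      intro k hk
      obtain ⟨h1, h2⟩ := twelve k hk
      have e := t_fix M h1 h2
      rw [← hx, ← Equiv.Perm.mul_apply, ← map_mul, pt_iff M.based, Subgroup.coe_mul, map_mul,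
        Equiv.Perm.mul_apply] at e
      exact e
    have hb : (Nat.lor (one1 47) (one1 420)).testBit (phi x q47) = true := by
      have h := iso_ok
      simp only [Bool.and_eq_true] at h
      rw [← Nat.eq_of_beq_eq_true h.1.2, testBit_land', testBit_land',
        (fixMask_spec (net_t 12) _).2 (hq 12 (Or.inl rfl)), (fixMask_spec (net_t 13) _).2 (hq 13 (Or.inr rfl)),
        D0_inv x.2, D0_q47]
      rfl
    rw [show ∀ a b : ℕ, Nat.lor a b = a ||| b from fun _ _ => rfl, Nat.testBit_or, Bool.or_eq_true,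
      testBit_one1, testBit_one1, decide_eq_true_eq, decide_eq_true_eq] at hb
    rcases hb with hb | hb
    · have e : E.A x E.b = E.b := (M.based x).2 (Fin.ext hb)
      rw [hx] at e
      have h2 : c0 E = a := M.g.injective (e.trans (ga M).symm)
      have hm := E.range_eq (p := E.b) (q := a) ⟨h2H, h2⟩
      have := congrArg Set.ncard hm
      rw [E.range_a, Set.ncard_singleton, E.hb] at this
      omega
    · -- `{a}` with the orbit of `b` would be preserved by a subgroup of impossible order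
      have := E.finite
      set X : Set Ω := insert a (Set.range fun z => E.A z E.b) with hX
      have hgX : ∀ p ∈ X, M.g p ∈ X := by
        rintro p (rfl | ⟨z, rfl⟩)
        · exact Or.inr (by rw [ga]; exact E.self_mem _)
        · rcases eq_or_ne (phi z q47) q47 with e47 | e47
          · left
            show M.g (E.A z E.b) = a
            rw [(M.based z).2 e47, gb]
          · obtain ⟨j, hj, hje⟩ := nbr_cases (by rw [D0_inv z.2]; exact D0_q47) e47
            change j ∈ C3 at hj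
            have hjH : j ∈ H := (C3_le hj).1
            right
            rcases hje with hje | hje
            · have e : E.A z E.b = E.A ⟨j, hjH⟩ (E.P 1) := by
                rw [P, ← Equiv.Perm.mul_apply, ← map_mul, pt_iff M.based, Subgroup.coe_mul, pow_one, map_mul,
                  Equiv.Perm.mul_apply, w47.1, hje]
              show M.g (E.A z E.b) ∈ _
              rw [e, agree_apply M hj, (gP M).1]
              exact ⟨⟨_, u_conj_H (x := ⟨j, hjH⟩) hj⟩ * wH ^ 2, by simp only [map_mul]; rfl⟩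
            · have e : E.A z E.b = E.A ⟨j, hjH⟩ (c0 E) := by
                rw [c0, ← Equiv.Perm.mul_apply, ← map_mul, pt_iff M.based, Subgroup.coe_mul, map_mul,
                  Equiv.Perm.mul_apply, u_pts.2.2.2.2, hje]
              show M.g (E.A z E.b) ∈ _
              rw [e, agree_apply M hj]
              exact ⟨⟨_, u_conj_H (x := ⟨j, hjH⟩) hj⟩ * x, by
                rw [show M.g (c0 E) = E.A x E.b from hx.symm]; simp only [map_mul]; rfl⟩
      have hAX : ∀ (z : H), ∀ p ∈ X, E.A z p ∈ X := by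
        rintro z p (rfl | ⟨w, rfl⟩)
        · exact Or.inl (E.fix _)
        · exact Or.inr ⟨z * w, by simp only [map_mul]; rfl⟩
      let S : Subgroup (Equiv.Perm Ω) := MulAction.stabilizer (Equiv.Perm Ω) X
      have hmaps : ∀ s : Equiv.Perm Ω, (∀ p ∈ X, s p ∈ X) → s ∈ S := fun s hs => by
        rw [MulAction.mem_stabilizer_iff]
        refine Set.eq_of_subset_of_ncard_le ?_ ?_
        · rintro _ ⟨p, hp, rfl⟩; exact hs p hp
        · exact le_of_eq (Set.ncard_image_of_injective X (MulAction.injective s)).symm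
      let K : Subgroup (Equiv.Perm Ω) := G ⊓ S
      have hKA : ∀ z, E.A z ∈ K := fun z => ⟨E.mem z, hmaps _ (hAX z)⟩
      have hKg : M.g ∈ K := ⟨M.swap.1, hmaps _ hgX⟩
      have horb : MulAction.orbit K a = X := by
        ext p
        constructor
        · rintro ⟨s, rfl⟩
          have hs : (s : Equiv.Perm Ω) • X = X := (s.2).2
          rw [← hs]
          exact Set.smul_mem_smul_set (Or.inl rfl)
        · rintro (rfl | ⟨z, rfl⟩)
          · exact MulAction.mem_orbit_self _
          · exact ⟨⟨E.A z * M.g, K.mul_mem (hKA z) hKg⟩, by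
              show (E.A z * M.g) a = E.A z E.b
              rw [Equiv.Perm.mul_apply, ga]⟩
      have hstab : Nat.card (MulAction.stabilizer K a) = 251596800 := by
        rw [← SuzG2.card_H]
        refine (Nat.card_congr (Equiv.ofBijective
          (fun z : H => (⟨⟨E.A z, hKA z⟩, E.fix z⟩ : MulAction.stabilizer K a)) ⟨?_, ?_⟩)).symm
        · intro z w e
          exact E.inj (congrArg (fun s : MulAction.stabilizer K a => ((s : K) : Equiv.Perm Ω)) e)
        · rintro ⟨⟨s, hs⟩, h⟩
          obtain ⟨z, rfl⟩ := E.surj s hs.1 h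
          exact ⟨z, rfl⟩
      have hXc : Nat.card X = 417 := by
        rw [Nat.card_coe_set_eq, hX, Set.ncard_insert_of_notMem, E.hb]
        intro ha
        have := congrArg Set.ncard (E.range_eq ha)
        rw [E.range_a, Set.ncard_singleton, E.hb] at this
        omega
      have hcard := (MulAction.stabilizer K a).card_eq_card_quotient_mul_card_subgroup
      rw [← Nat.card_congr (MulAction.orbitEquivQuotientStabilizer K a), hstab, horb, hXc] at hcard
      have hdvd := Subgroup.card_dvd_of_le (show K ≤ G from inf_le_left)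
      rw [hcard, E.card_G] at hdvd
      norm_num at hdvd
  · exact h

theorem stab_d : ∀ x : H, E.A x (d M) = d M ↔ phi x q677 = q677 := by
  have := finite_suz
  set P' := E.stabOf (d M) with hP'
  have hc : Nat.card P' = 184320 := by
    have h := E.card_orbit (d M)
    rw [E.range_eq (d_far M), E.hc] at h
    rw [hP']
    omega
  have hPH : P' ≤ H := E.stabOf_le _
  have ht : ∀ k, k = 12 ∨ k = 13 → el 3 * el k * el 3 ∈ P' := fun k hk => by
    obtain ⟨h1, h2⟩ := twelve k hk
    exact (E.coe_mem_stabOf (tH k h1)).2 (t_fix M h1 h2)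
  have hls : ∀ l ∈ tNets, ∃ g ∈ P', NetOf l (phi g) := by
    intro l hl
    simp only [tNets, List.mem_cons, List.not_mem_nil, or_false] at hl
    rcases hl with rfl | rfl
    · exact ⟨_, ht 12 (Or.inl rfl), net_t 12⟩
    · exact ⟨_, ht 13 (Or.inr rfl), net_t 13⟩
  have : Fact (Nat.Prime 2) := ⟨Nat.prime_two⟩
  obtain ⟨T, hT⟩ := Sylow.exists_subgroup_card_pow_prime (G := P') 2 (n := 12) (by rw [hc]; norm_num)
  let V := {p : Fin rep.N // D1.testBit p = true}
  let _ : MulAction T V :=
    { smul := fun t p => ⟨phi ((t : P') : Cfsg.Spor.Suz) p.1, by rw [D1_inv (hPH t.1.2)]; exact p.2⟩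
      one_smul := fun p => Subtype.ext (by show phi ((1 : P') : Cfsg.Spor.Suz) p.1 = p.1; simp)
      mul_smul := fun s t p => Subtype.ext (by
        show phi (((s * t : T) : P') : Cfsg.Spor.Suz) p.1 = phi _ (phi _ p.1)
        simp) }
  have hV : Nat.card V = 1365 := by
    rw [← Nat.eq_of_beq_eq_true D0_cover.2.2.2, ← card_pts, ← Nat.card_eq_finsetCard]
    exact Nat.card_congr (Equiv.subtypeEquivRight fun p => by simp [pts])
  have hmod := (IsPGroup.of_card hT).card_modEq_card_fixedPoints V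
  rw [hV] at hmod
  have hne : Nonempty (MulAction.fixedPoints T V) := by
    by_contra h
    rw [not_nonempty_iff] at h
    rw [Nat.card_of_isEmpty] at hmod
    exact absurd hmod (by decide)
  obtain ⟨⟨⟨p, hp⟩, hfix⟩⟩ := hne
  have h1 := card_eq_orbit P' p
  have h2 : 4096 ∣ Nat.card (P' ⊓ St p : Subgroup Cfsg.Spor.Suz) := by
    have hle : T.map P'.subtype ≤ P' ⊓ St p := by
      rintro _ ⟨t, htT, rfl⟩
      exact ⟨t.2, congrArg (fun v : V => (v.1 : Fin rep.N)) (hfix ⟨t, htT⟩)⟩
    have := Subgroup.card_dvd_of_le hle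
    rwa [Subgroup.card_map_of_injective Subtype.val_injective, hT, show 2 ^ 12 = 4096 by norm_num] at this
  rw [hc] at h1
  obtain ⟨m, hm⟩ := h2
  have h45 : (orbitF P' p).card ∣ 45 := ⟨m, by
    rw [hm, mul_comm 4096 m, ← mul_assoc] at h1
    omega⟩
  have hor := orbit_ok
  simp only [Bool.and_eq_true, List.all_eq_true (l := tOrbits), Nat.blt_eq] at hor
  obtain ⟨⟨hcov, horb⟩, hsum⟩ := hor
  classical
  let B : Finset ℕ := (orbitF P' p).image Fin.val
  have hO : ∀ j ∈ orbitF P' p, D1.testBit j = true := fun j hj => by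
    obtain ⟨g, hg, rfl⟩ := mem_orbitF.1 hj
    rw [D1_inv (hPH hg)]; exact hp
  have hmem := cover_sum B tOrbits _ hcov fun O hO' => by
    obtain ⟨hrep, hbits⟩ := horb O hO'
    have conn : ∀ i, ∀ hi : i < rep.N, O.bits.testBit i = true →
        ∃ g ∈ P', phi g ⟨O.rep, hrep⟩ = ⟨i, hi⟩ := fun i hi hb => by
      rw [← Nat.eq_of_beq_eq_true hbits, testBit_land_ones, Bool.and_eq_true] at hb
      exact grow_one (p := ⟨O.rep, hrep⟩) (j := ⟨i, hi⟩) hls hb.1
    by_cases hin : (⟨O.rep, hrep⟩ : Fin rep.N) ∈ orbitF P' p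
    · left
      intro i hi hb
      obtain ⟨g, hg, e⟩ := conn i hi hb
      obtain ⟨g', hg', e'⟩ := mem_orbitF.1 hin
      exact Finset.mem_image.2 ⟨⟨i, hi⟩, mem_orbitF.2 ⟨g * g', P'.mul_mem hg hg', by
        rw [map_mul, Equiv.Perm.mul_apply, e', e]⟩, rfl⟩
    · right
      intro i hi hb hB
      obtain ⟨g, hg, e⟩ := conn i hi hb
      obtain ⟨j, hj, hje⟩ := Finset.mem_image.1 hB
      obtain ⟨g', hg', e'⟩ := mem_orbitF.1 hj
      refine hin (mem_orbitF.2 ⟨g⁻¹ * g', P'.mul_mem (P'.inv_mem hg) hg', ?_⟩)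
      rw [map_mul, Equiv.Perm.mul_apply, e', map_inv]
      exact (Equiv.symm_apply_eq _).2 ((Fin.ext hje : j = ⟨i, hi⟩).trans e.symm)
  have hBeq : ((Finset.range rep.N).filter fun i => i ∈ B ∧ (Nat.xor (ones rep.N) D1).testBit i = false) = B := by
    ext i
    simp only [Finset.mem_filter, Finset.mem_range]
    refine ⟨fun h => h.2.1, fun h => ?_⟩
    obtain ⟨j, hj, rfl⟩ := Finset.mem_image.1 h
    refine ⟨j.2, h, ?_⟩
    rw [show ∀ a b : ℕ, Nat.xor a b = a ^^^ b from fun _ _ => rfl, Nat.testBit_xor, testBit_all, hO j hj]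
    rfl
  rw [hBeq, Finset.card_image_of_injective _ Fin.val_injective] at hmem
  have hcard1 : (orbitF P' p).card = 1 := by
    have h := List.all_eq_true.1 hsum _ hmem
    rw [Bool.or_eq_true, Bool.not_eq_true'] at h
    rcases h with h | h
    · have hpos : 0 < (orbitF P' p).card :=
        Finset.card_pos.2 ⟨p, mem_orbitF.2 ⟨1, P'.one_mem, by simp⟩⟩
      have := Nat.ble_eq.mp h
      omega
    · rw [Nat.mod_eq_zero_of_dvd h45, Nat.beq_refl] at h
      exact absurd h (by decide)
  have hall : ∀ g ∈ P', phi g p = p := fun g hg => by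
    have h1m : phi g p ∈ orbitF P' p := mem_orbitF.2 ⟨g, hg, rfl⟩
    exact Finset.card_le_one.1 hcard1.le _ h1m _ (mem_orbitF.2 ⟨1, P'.one_mem, by simp⟩)
  have hp677 : p = q677 := by
    have h := iso_ok
    simp only [Bool.and_eq_true] at h
    have hb : (one1 677).testBit p = true := by
      rw [← Nat.eq_of_beq_eq_true h.2, testBit_land', testBit_land',
        (fixMask_spec (net_t 12) p).2 (hall _ (ht 12 (Or.inl rfl))),
        (fixMask_spec (net_t 13) p).2 (hall _ (ht 13 (Or.inr rfl))), hp]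
      rfl
    rw [testBit_one1, decide_eq_true_eq] at hb
    exact Fin.ext hb
  have heq : P' = H ⊓ St q677 := Subgroup.eq_of_le_of_card_ge
    (fun x hx => ⟨hPH hx, hp677 ▸ hall x hx⟩) (by rw [hc, card_stab_D1 D1_q677])
  intro x
  rw [← E.coe_mem_stabOf, ← hP', heq]
  exact and_iff_right x.2

theorem D1_trans677 {j : Fin rep.N} (h : D1.testBit j = true) : ∃ g ∈ H, phi g q677 = j := by
  obtain ⟨g1, hg1, e1⟩ := D1_trans D1_q677
  obtain ⟨g2, hg2, e2⟩ := D1_trans h
  refine ⟨g2 * g1⁻¹, H.mul_mem hg2 (H.inv_mem hg1), ?_⟩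
  rw [map_mul, map_inv, Equiv.Perm.mul_apply, ← e1, Equiv.Perm.inv_def, Equiv.symm_apply_apply, e2]

theorem D0_not_D1 {j : Fin rep.N} (h : D1.testBit j = true) : j ≠ p0 ∧ D0.testBit j = false := (testBit_D1 j).1 h

/-- the correspondence of points -/
noncomputable def theta (M : Norm E) (x : Fin rep.N) : Ω :=
  if x = p0 then a
  else if h : D0.testBit x = true then E.A ⟨(D0_trans h).choose, (D0_trans h).choose_spec.1⟩ E.b
  else if h' : D1.testBit x = true then
    E.A ⟨(D1_trans677 h').choose, (D1_trans677 h').choose_spec.1⟩ (d M)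
  else a

theorem theta_p0 : theta M p0 = a := by rw [theta, if_pos rfl]

theorem theta_D0 (x : H) : theta M (phi x q47) = E.A x E.b := by
  have h : D0.testBit (phi x q47) = true := by rw [D0_inv x.2]; exact D0_q47
  have hne : phi x q47 ≠ p0 := fun e => by rw [e] at h; revert h; decide +kernel
  rw [theta, if_neg hne, dif_pos h, pt_iff M.based]
  exact (D0_trans h).choose_spec.2

theorem theta_D1 (x : H) : theta M (phi x q677) = E.A x (d M) := by
  have h : D1.testBit (phi x q677) = true := by rw [D1_inv x.2]; exact D1_q677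
  obtain ⟨hne, h0⟩ := D0_not_D1 h
  rw [theta, if_neg hne, dif_neg (by rw [h0]; decide), dif_pos h]
  set y : H := ⟨(D1_trans677 h).choose, (D1_trans677 h).choose_spec.1⟩
  have hy : phi y q677 = phi x q677 := (D1_trans677 h).choose_spec.2
  have := (stab_d M (x⁻¹ * y)).2 (by
    rw [Subgroup.coe_mul, Subgroup.coe_inv, map_mul, map_inv, Equiv.Perm.mul_apply, hy, Equiv.Perm.inv_def,
      Equiv.symm_apply_apply])
  rw [map_mul, map_inv, Equiv.Perm.mul_apply] at this
  exact (Equiv.symm_apply_eq _).1 this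

theorem theta_H (x : H) (j : Fin rep.N) : theta M (phi x j) = E.A x (theta M j) := by
  rcases trichotomy j with rfl | h | h
  · rw [phi_p0 x.2, theta_p0, E.fix]
  · obtain ⟨y, hy, rfl⟩ := D0_trans h
    rw [← Equiv.Perm.mul_apply, ← map_mul]
    refine (theta_D0 M (x * ⟨y, hy⟩)).trans ?_
    rw [map_mul, Equiv.Perm.mul_apply]
    exact congrArg _ (theta_D0 M ⟨y, hy⟩).symm
  · obtain ⟨y, hy, rfl⟩ := D1_trans677 h
    rw [← Equiv.Perm.mul_apply, ← map_mul]
    refine (theta_D1 M (x * ⟨y, hy⟩)).trans ?_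
    rw [map_mul, Equiv.Perm.mul_apply]
    exact congrArg _ (theta_D1 M ⟨y, hy⟩).symm

theorem theta_u_near {v : Fin rep.N} (h : v = p0 ∨ D0.testBit v = true) :
    theta M (phi (el 3) v) = M.g (theta M v) := by
  obtain ⟨u0, u47, u304, u72, h40⟩ := u_pts
  have hb : theta M q47 = E.b := by
    have := theta_D0 M (1 : H)
    rwa [Subgroup.coe_one, map_one, Equiv.Perm.one_apply, map_one, Equiv.Perm.one_apply] at this
  rcases h with rfl | h
  · rw [u0, hb, theta_p0, ga]
  rcases eq_or_ne v q47 with rfl | hne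
  · rw [u47, hb, theta_p0, gb]
  obtain ⟨j, hj, hje⟩ := nbr_cases h hne
  change j ∈ C3 at hj
  have hjH : j ∈ H := (C3_le hj).1
  let jH : H := ⟨j, hjH⟩
  let jH' : H := ⟨_, u_conj_H (x := jH) hj⟩
  have hconj : ∀ q, phi (el 3) (phi j q) = phi (jH' : Cfsg.Spor.Suz) (phi (el 3) q) := fun q => by
    show _ = phi (el 3 * j * el 3) (phi (el 3) q)
    rw [← Equiv.Perm.mul_apply, ← map_mul, ← Equiv.Perm.mul_apply, ← map_mul, mul_assoc _ (el 3), u_sq, mul_one]
  rcases hje with hje | hje
  · have h1 : theta M q304 = E.P 1 := by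
      rw [← w47.1, P, pow_one]; exact theta_D0 M wH
    have h2 : theta M q1700 = E.P 2 := by
      rw [← w47_two, P]; exact theta_D0 M (wH ^ 2)
    rw [← hje, hconj, u304, theta_H, h2, show j = (jH : Cfsg.Spor.Suz) from rfl, theta_H, h1,
      agree_apply M (x := jH) hj, (gP M).1]
  · have h1 : theta M q72 = c0 E := by rw [← h40]; exact theta_D0 M h2H
    have h2 : theta M q677 = d M := by
      have := theta_D1 M (1 : H)
      rwa [Subgroup.coe_one, map_one, Equiv.Perm.one_apply, map_one, Equiv.Perm.one_apply] at this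
    rw [← hje, hconj, u72, theta_H, h2, show j = (jH : Cfsg.Spor.Suz) from rfl, theta_H, h1,
      agree_apply M (x := jH) hj]
    rfl

theorem theta_u (x : Fin rep.N) : theta M (phi (el 3) x) = M.g (theta M x) := by
  rcases trichotomy x with h | h | h
  · exact theta_u_near M (Or.inl h)
  · exact theta_u_near M (Or.inr h)
  have hc := cover_ok
  rw [Bool.and_eq_true] at hc
  obtain ⟨j0, hj0, hb⟩ := grow_spec (K := C3) (fun l hl => by
    obtain ⟨k, hk, rfl⟩ := List.mem_map.1 hl
    exact ⟨el k, Subgroup.subset_closure ⟨k, hk, rfl⟩, net_el k⟩) (sub_of_land hc.1 h)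
  rw [((net_el 1).mul (net_el 3)).rev.bit] at hb
  set v := ((phi (el 1) * phi (el 3))⁻¹) (phi j0 x) with hv
  have hx : x = phi (j0⁻¹) (phi (el 1) (phi (el 3) v)) := by
    rw [hv, ← Equiv.Perm.mul_apply (phi (el 1)), Equiv.Perm.inv_def, Equiv.apply_symm_apply, ← Equiv.Perm.mul_apply,
      ← map_mul, inv_mul_cancel, map_one, Equiv.Perm.one_apply]
  let jH : H := ⟨j0⁻¹, (C3_le (C3.inv_mem hj0)).1⟩
  have hjC : (jH : Cfsg.Spor.Suz) ∈ C3 := C3.inv_mem hj0
  let jH' : H := ⟨_, u_conj_H hjC⟩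
  have e1 : phi (el 3) x = phi (jH' : Cfsg.Spor.Suz) (phi (el 1 ^ 2) (phi (el 3) (phi (el 1 ^ 2) v))) := by
    rw [hx]
    simp only [← Equiv.Perm.mul_apply, ← map_mul]
    congr 2
    show el 3 * (j0⁻¹ * (el 1 * el 3)) = el 3 * j0⁻¹ * el 3 * (el 1 ^ 2 * (el 3 * el 1 ^ 2))
    calc el 3 * (j0⁻¹ * (el 1 * el 3)) = el 3 * j0⁻¹ * (el 3 * el 3) * el 1 * el 3 := by
          rw [u_sq, mul_one]; simp only [mul_assoc]
      _ = el 3 * j0⁻¹ * el 3 * (el 3 * el 1 * el 3) := by simp only [mul_assoc]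
      _ = _ := by rw [uwu, pow_two]; simp only [mul_assoc]
  have hv2 : D0.testBit (phi (el 1 ^ 2) v) = true := by
    rw [D0_inv (H.pow_mem wH.2 2)]; exact hb
  have e2 : el 1 ^ 2 = ((wH ^ 2 : H) : Cfsg.Spor.Suz) := rfl
  rw [e1, theta_H]
  rw [e2] at hv2 ⊢
  rw [theta_H, theta_u_near M (Or.inr hv2), theta_H, hx, show (j0⁻¹) = (jH : Cfsg.Spor.Suz) from rfl, theta_H,
    show phi (el 1) = phi (wH : Cfsg.Spor.Suz) from rfl, theta_H, theta_u_near M (Or.inr hb), agree_apply M hjC]
  congr 1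
  have := congrArg (fun s : Equiv.Perm Ω => s (theta M v)) (gwg M)
  simp only [Equiv.Perm.mul_apply] at this
  exact this.symm

theorem theta_bij : Function.Bijective (theta M) := by
  have := E.finite
  have hinj : Function.Injective (theta M) := by
    have far : ∀ x z : H, E.A x (d M) ≠ E.A z E.b := fun x z e => by
      have h1 := E.range_eq (d_far M)
      have h2 : (Set.range fun t => E.A t (d M)) = Set.range fun t => E.A t E.b := by
        rw [← E.range_eq (p := d M) ⟨x, rfl⟩, ← E.range_eq (p := E.b) ⟨z, rfl⟩]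
        simp only [e]
      have := congrArg Set.ncard (h1.symm.trans h2)
      rw [E.hc, E.hb] at this
      omega
    have hnb : ∀ z : H, E.A z E.b ≠ a := fun z e => E.ne_ab ((E.A z).injective (e.trans (E.fix z).symm))
    have hnd : ∀ z : H, E.A z (d M) ≠ a := fun z e => by
      have h1 : d M = a := (E.A z).injective (e.trans (E.fix z).symm)
      have h2 := congrArg Set.ncard (E.range_eq (d_far M))
      rw [h1, E.range_a, Set.ncard_singleton, E.hc] at h2
      omega
    intro x z e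
    rcases trichotomy x with rfl | hx | hx
    · rcases trichotomy z with rfl | hz | hz
      · rfl
      · obtain ⟨s, hs, rfl⟩ := D0_trans hz
        rw [theta_p0, theta_D0 M ⟨s, hs⟩] at e
        exact absurd e.symm (hnb _)
      · obtain ⟨s, hs, rfl⟩ := D1_trans677 hz
        rw [theta_p0, theta_D1 M ⟨s, hs⟩] at e
        exact absurd e.symm (hnd _)
    · obtain ⟨r, hr, rfl⟩ := D0_trans hx
      rw [theta_D0 M ⟨r, hr⟩] at e
      rcases trichotomy z with rfl | hz | hz
      · rw [theta_p0] at e; exact absurd e (hnb _)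
      · obtain ⟨s, hs, rfl⟩ := D0_trans hz
        rw [theta_D0 M ⟨s, hs⟩] at e
        exact (pt_iff M.based _ _).1 e
      · obtain ⟨s, hs, rfl⟩ := D1_trans677 hz
        rw [theta_D1 M ⟨s, hs⟩] at e
        exact absurd e.symm (far _ _)
    · obtain ⟨r, hr, rfl⟩ := D1_trans677 hx
      rw [theta_D1 M ⟨r, hr⟩] at e
      rcases trichotomy z with rfl | hz | hz
      · rw [theta_p0] at e; exact absurd e (hnd _)
      · obtain ⟨s, hs, rfl⟩ := D0_trans hz
        rw [theta_D0 M ⟨s, hs⟩] at e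
        exact absurd e (far _ _)
      · obtain ⟨s, hs, rfl⟩ := D1_trans677 hz
        rw [theta_D1 M ⟨s, hs⟩] at e
        have := (stab_d M (⟨s, hs⟩⁻¹ * ⟨r, hr⟩)).1 (by
          rw [map_mul, map_inv, Equiv.Perm.mul_apply, e, Equiv.Perm.inv_def, Equiv.symm_apply_apply])
        rw [Subgroup.coe_mul, Subgroup.coe_inv, map_mul, map_inv, Equiv.Perm.mul_apply] at this
        exact (Equiv.symm_apply_eq _).1 this
  have : Fintype Ω := Fintype.ofFinite Ω
  rw [Fintype.bijective_iff_injective_and_card]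
  refine ⟨hinj, ?_⟩
  rw [Fintype.card_fin, ← Nat.card_eq_fintype_card, E.card]
  decide +kernel

omit M in
theorem iso (M : Norm E) : Nonempty (G ≃* Cfsg.Spor.Suz) := by
  have := E.finite
  let e := Equiv.ofBijective (theta M) (theta_bij M)
  let ρ : Cfsg.Spor.Suz →* Equiv.Perm Ω := MonoidHom.mk' (fun s => e.permCongr (phi s)) fun s t => by
    ext p
    simp [Equiv.permCongr_apply, map_mul]
  have hρ : ∀ s (p : Fin rep.N), ρ s (theta M p) = theta M (phi s p) := fun s p => by
    show e.permCongr (phi s) (e p) = e (phi s p)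
    rw [Equiv.permCongr_apply, Equiv.symm_apply_apply]
  have hall : (⊤ : Subgroup Cfsg.Spor.Suz) ≤ G.comap ρ := by
    rw [← closure_H_u, Subgroup.closure_le]
    rintro s (hs | hs)
    · have e1 : ρ s = E.A ⟨s, hs⟩ := by
        refine Equiv.ext fun q => ?_
        obtain ⟨p, rfl⟩ := (theta_bij M).2 q
        rw [hρ]
        exact theta_H M ⟨s, hs⟩ p
      show ρ s ∈ G
      rw [e1]; exact E.mem _
    · rw [Set.mem_singleton_iff] at hs
      subst hs
      have e1 : ρ (el 3) = M.g := by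
        refine Equiv.ext fun q => ?_
        obtain ⟨p, rfl⟩ := (theta_bij M).2 q
        rw [hρ]
        exact theta_u M p
      show ρ (el 3) ∈ G
      rw [e1]; exact M.swap.1
  have hinj : Function.Injective ρ := e.permCongr.injective.comp phi_injective
  have heq : ρ.range = G := by
    refine Subgroup.eq_of_le_of_card_ge ?_ ?_
    · rintro _ ⟨s, rfl⟩; exact hall (Subgroup.mem_top s)
    · rw [E.card_G, Nat.card_congr (MonoidHom.ofInjective hinj).symm.toEquiv, SuzOrder.card_eq]
  exact ⟨((MonoidHom.ofInjective hinj).trans (MulEquiv.subgroupCongr heq)).symm⟩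

end Emb

end CfsgLib.SuzRankThree
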