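import Cfsg.Agent.Lib.SuzRankThree.Roots

/-!
Every subgroup of order 604800 of the point stabiliser fixes one of the 416 neighbours.
-/
set_option autoImplicit false
set_option maxRecDepth 8000
set_option Elab.async false

namespace CfsgLib.SuzRankThree

open CfsgLib.Presented CfsgLib.Presented.Vec CfsgLib.OutSuz
open CfsgLib.Presented.SuzCosets (phi phi_ev rep_valid ev H)
open CfsgLib.Presented.SuzCert (rep)
open CfsgLib.Presented.SuzOrder (phi_injective)

/-- the subgroup fixes a neighbour of the base point -/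
def Good (J : Subgroup Cfsg.Spor.Suz) : Prop :=
  ∃ q : Fin rep.N, D0.testBit q = true ∧ ∀ x ∈ J, phi x q = q

/-! ### A group of order 64 with few classes of involutions -/

/-- the normal forms -/
noncomputable def nf (a : ℕ) : Cfsg.Spor.Suz := elW (nfWords.getD a [])

/-- the group -/
noncomputable def R64 : Subgroup Cfsg.Spor.Suz :=
  Subgroup.closure (el '' {k | k ∈ [19, 20, 22, 23, 25, 26]})

/-- the signature of a network -/
noncomputable def sig (l : List Stage) : ℕ := Nat.land (applyNet l (one1 2)) (ones rep.N)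

theorem sig_eq {l l' : List Stage} {π : Pm} (h : NetOf l π) (h' : NetOf l' π) : sig l = sig l' := by
  refine Nat.eq_of_testBit_eq fun i => ?_
  rw [sig, sig, testBit_land_ones, testBit_land_ones]
  rcases lt_or_ge i rep.N with hi | hi
  · rw [show i = ((⟨i, hi⟩ : Fin rep.N) : ℕ) from rfl, h.bit, h'.bit]
  · rw [decide_eq_false (not_lt.2 hi), Bool.and_false, Bool.and_false]

/-- a row of the multiplication table -/
noncomputable def nfRowOK (a : ℕ) : Bool :=
  (List.range 6).all fun g =>
    Nat.blt ((nfMult.getD a []).getD g 64) 64 &&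
      sameNet (flatN (nfWords.getD a []) ++ netEl ([19, 20, 22, 23, 25, 26].getD g 0))
        (flatN (nfWords.getD ((nfMult.getD a []).getD g 64) []))

theorem nf_table_ok : (Nat.beq nfWords.length 64 &&
    nfWords.all (fun w => w.all fun x => [19, 20, 21, 22, 23, 24, 25, 26, 27, 999].contains x) &&
    sameNet (flatN (nfWords.getD 0 [])) [] && sameNet (netEl 21) (netEl 19 ++ netEl 20) &&
    sameNet (netEl 24) (netEl 22 ++ netEl 23) && sameNet (netEl 27) (netEl 25 ++ netEl 26)) = true := by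
  decide +kernel

theorem nf_rows0 : (List.range 16).all (fun a => nfRowOK a) = true := by decide +kernel
theorem nf_rows1 : (List.range 16).all (fun a => nfRowOK (16 + a)) = true := by decide +kernel
theorem nf_rows2 : (List.range 16).all (fun a => nfRowOK (32 + a)) = true := by decide +kernel
theorem nf_rows3 : (List.range 16).all (fun a => nfRowOK (48 + a)) = true := by decide +kernel

theorem nf_row {a : ℕ} (ha : a < 64) : nfRowOK a = true := by
  have get : ∀ {o : ℕ}, (List.range 16).all (fun j => nfRowOK (o + j)) = true → o ≤ a → a < o + 16 → nfRowOK a = true := by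
    intro o h h1 h2
    have := List.all_eq_true.1 h (a - o) (List.mem_range.2 (by omega))
    rwa [Nat.add_sub_cancel' h1] at this
  by_cases h : a < 16
  · exact List.all_eq_true.1 nf_rows0 a (List.mem_range.2 h)
  by_cases h : a < 32
  · exact get nf_rows1 (by omega) (by omega)
  by_cases h : a < 48
  · exact get nf_rows2 (by omega) (by omega)
  exact get nf_rows3 (by omega) (by omega)

theorem nf_sig_ok : distinctB ((List.range 64).map fun a => sig (flatN (nfWords.getD a []))) = true := by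
  decide +kernel

theorem el_999 : el 999 = 1 := by
  rw [el, (el_ge (by norm_num)).1, evW_nil]

theorem nf_mem {a : ℕ} (ha : a < 64) : nf a ∈ R64 := by
  have h := nf_table_ok
  simp only [Bool.and_eq_true, List.all_eq_true (l := nfWords)] at h
  obtain ⟨⟨⟨⟨⟨hl, hw⟩, -⟩, h21⟩, h24⟩, h27⟩ := h
  have g : ∀ k ∈ [19, 20, 22, 23, 25, 26], el k ∈ R64 := fun k hk => Subgroup.subset_closure ⟨k, hk, rfl⟩
  refine elW_mem fun x hx => ?_
  have hlen : a < nfWords.length := by rw [Nat.eq_of_beq_eq_true hl]; exact ha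
  have hwa := hw (nfWords.getD a []) (by rw [List.getD_eq_getElem _ _ hlen]; exact List.getElem_mem hlen)
  have := List.contains_iff_mem.1 (List.all_eq_true.1 hwa x hx)
  simp only [List.mem_cons, List.not_mem_nil, or_false] at this
  have e : ∀ {a b c : ℕ}, sameNet (netEl c) (netEl a ++ netEl b) = true → el c = el a * el b := fun hs =>
    eq_of_nets (net_el _) (by rw [map_mul]; exact (net_el _).mul (net_el _)) hs
  rcases this with rfl | rfl | rfl | rfl | rfl | rfl | rfl | rfl | rfl | rfl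
  · exact g _ (by decide)
  · exact g _ (by decide)
  · rw [e h21]; exact R64.mul_mem (g _ (by decide)) (g _ (by decide))
  · exact g _ (by decide)
  · exact g _ (by decide)
  · rw [e h24]; exact R64.mul_mem (g _ (by decide)) (g _ (by decide))
  · exact g _ (by decide)
  · exact g _ (by decide)
  · rw [e h27]; exact R64.mul_mem (g _ (by decide)) (g _ (by decide))
  · rw [el_999]; exact R64.one_mem

theorem nf_zero : nf 0 = 1 := by
  have h := nf_table_ok
  simp only [Bool.and_eq_true] at h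
  exact eq_of_nets (net_elW _) (by rw [map_one]; exact NetOf.one) h.1.1.1.2

theorem R64_eq {x : Cfsg.Spor.Suz} (hx : x ∈ R64) : ∃ a < 64, x = nf a := by
  have key : ∀ a < 64, ∃ b < 64, nf a * x = nf b := by
    refine closure_pred (P := fun x => ∀ a < 64, ∃ b < 64, nf a * x = nf b) (fun a ha => ⟨a, ha, mul_one _⟩)
      (fun x z hx hz a ha => ?_) ?_ hx
    · obtain ⟨b, hb, e⟩ := hx a ha
      obtain ⟨c, hc, e'⟩ := hz b hb
      exact ⟨c, hc, by rw [← mul_assoc, e, e']⟩
    · rintro _ ⟨k, hk, rfl⟩ a ha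
      obtain ⟨g, hg, hgk⟩ := List.getElem_of_mem hk
      have h := nf_row ha
      simp only [nfRowOK, Bool.and_eq_true, List.all_eq_true (l := List.range 6),
        List.mem_range, Nat.blt_eq] at h
      obtain ⟨hb, hs⟩ := h g hg
      refine ⟨_, hb, eq_of_nets ?_ (net_elW _) hs⟩
      rw [List.getD_eq_getElem _ _ hg, hgk, map_mul, nf]
      exact (net_elW _).mul (net_el _)
  obtain ⟨b, hb, e⟩ := key 0 (by norm_num)
  exact ⟨b, hb, by rw [← e, nf_zero, one_mul]⟩

theorem nf_inj {a b : ℕ} (ha : a < 64) (hb : b < 64) (h : nf a = nf b) : a = b := by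
  refine List.inj_on_of_nodup_map (distinctB_spec nf_sig_ok) (List.mem_range.2 ha) (List.mem_range.2 hb) ?_
  have hb' : NetOf (flatN (nfWords.getD b [])) (phi (nf a)) := by rw [h]; exact net_elW _
  exact sig_eq (π := phi (nf a)) (net_elW _) hb'

theorem card_R64 : Nat.card R64 = 64 := by
  rw [← Nat.card_fin 64]
  refine (Nat.card_congr (Equiv.ofBijective (fun a : Fin 64 => (⟨nf a, nf_mem a.2⟩ : R64)) ⟨?_, ?_⟩)).symm
  · intro a b e
    exact Fin.ext (nf_inj a.2 b.2 (congrArg Subtype.val e))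
  · rintro ⟨x, hx⟩
    obtain ⟨a, ha, rfl⟩ := R64_eq hx
    exact ⟨⟨a, ha⟩, rfl⟩

theorem R64_le_H : R64 ≤ H := by
  refine (Subgroup.closure_le _).2 ?_
  rintro _ ⟨k, hk, rfl⟩
  refine el_mem_H ?_
  simp only [Set.mem_setOf_eq, List.mem_cons, List.not_mem_nil, or_false] at hk
  omega

theorem nf_invol_ok : ((List.range 64).all fun a => Nat.beq a 0 ||
    cond (Nat.beq (nfWit.getD a (0, [], 0)).1 1)
      ((nfWit.getD a (0, [], 0)).2.1.all (fun x => Nat.blt x 6) && Nat.blt (nfWit.getD a (0, [], 0)).2.2 3 &&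
        sameNet (flatN (nfWords.getD a []) ++ rep.netW (nfWit.getD a (0, [], 0)).2.1)
          (rep.netW (nfWit.getD a (0, [], 0)).2.1 ++ netEl (6 + (nfWit.getD a (0, [], 0)).2.2)))
      (!(Nat.beq (sig (flatN (nfWords.getD a []) ++ flatN (nfWords.getD a []))) (sig [])))) = true := by
  decide +kernel

theorem root_of_R64 {x : Cfsg.Spor.Suz} (hx : x ∈ R64) (h2 : x * x = 1) (h1 : x ≠ 1) : IsRoot x := by
  obtain ⟨a, ha, rfl⟩ := R64_eq hx
  have h := List.all_eq_true.1 nf_invol_ok a (List.mem_range.2 ha)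
  rw [Bool.or_eq_true] at h
  rcases h with h | h
  · exact absurd (by rw [Nat.eq_of_beq_eq_true h, nf_zero]) h1
  · cases hw : Nat.beq (nfWit.getD a (0, [], 0)).1 1
    · exfalso
      rw [hw, cond_false, Bool.not_eq_true'] at h
      have e : sig (flatN (nfWords.getD a []) ++ flatN (nfWords.getD a [])) = sig [] := by
        refine sig_eq (π := phi (nf a * nf a)) ?_ ?_
        · rw [map_mul, nf]; exact (net_elW _).mul (net_elW _)
        · rw [h2, map_one]; exact NetOf.one
      rw [e, Nat.beq_refl] at h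
      exact absurd h (by decide)
    · rw [hw, cond_true] at h
      simp only [Bool.and_eq_true, Nat.blt_eq] at h
      obtain ⟨⟨hl, hb⟩, hs⟩ := h
      have hl7 : (nfWit.getD a (0, [], 0)).2.1.all (fun x => Nat.blt x 7) = true := by
        simp only [List.all_eq_true, Nat.blt_eq] at hl ⊢
        exact fun y hy => Nat.lt_succ_of_lt (hl y hy)
      set t := evW ev (nfWit.getD a (0, [], 0)).2.1
      have ht : t ∈ H := by
        simp only [List.all_eq_true, Nat.blt_eq] at hl
        refine (evW_mem_of H _ hl)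
      refine ⟨t, ht, _, hb, eq_mul_inv_of_mul_eq ?_⟩
      exact eq_of_nets (by rw [map_mul, nf]; exact (net_elW _).mul (net_word hl7))
        (by rw [map_mul]; exact (net_word hl7).mul (net_el _)) hs
where
  evW_mem_of (K : Subgroup Cfsg.Spor.Suz) : ∀ w : List ℕ, (∀ x ∈ w, x < 6) → evW ev w ∈ H
    | [], _ => H.one_mem
    | x :: w, h => by
      rw [evW_cons]
      exact H.mul_mem (letter_mem_H (h x List.mem_cons_self))
        (evW_mem_of K w fun y hy => h y (List.mem_cons_of_mem _ hy))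

theorem exists_root {J : Subgroup Cfsg.Spor.Suz} (hJ : J ≤ H) (hc : Nat.card J = 604800) :
    ∃ z ∈ J, IsRoot z := by
  have := finite_suz
  have : Fact (Nat.Prime 2) := ⟨Nat.prime_two⟩
  obtain ⟨T, hT⟩ := Sylow.exists_subgroup_card_pow_prime (G := J) 2 (n := 7) (by rw [hc]; norm_num)
  let ι := Subgroup.inclusion hJ
  let T' : Subgroup H := T.map ι
  have hTc : Nat.card T' = 2 ^ 7 := by
    rw [Subgroup.card_map_of_injective (Subgroup.inclusion_injective hJ), hT]
  let R' : Subgroup H := R64.subgroupOf H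
  have hRc : Nat.card R' = 2 ^ 6 := by
    rw [Nat.card_congr (Subgroup.subgroupOfEquivOfLe R64_le_H).toEquiv, card_R64]; norm_num
  obtain ⟨P, hP⟩ := (IsPGroup.of_card hTc).exists_le_sylow
  obtain ⟨Q, hQ⟩ := (IsPGroup.of_card hRc).exists_le_sylow
  obtain ⟨g, hg⟩ := MulAction.exists_smul_eq H Q P
  have hconj : ∀ r ∈ R', g * r * g⁻¹ ∈ (P : Subgroup H) := fun r hr => by
    rw [← hg, Sylow.coe_subgroup_smul]
    refine Subgroup.mem_map.2 ⟨r, hQ hr, ?_⟩
    simp [MulAut.conj_apply]
  obtain ⟨n, hn⟩ := IsPGroup.iff_card.1 P.isPGroup'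
  have hn12 : n ≤ 12 := by
    by_contra hlt
    have hd : 2 ^ n ∣ Nat.card H := hn ▸ Subgroup.card_subgroup_dvd_card _
    have hd' : 2 ^ 13 ∣ Nat.card H := dvd_trans (pow_dvd_pow 2 (not_le.1 hlt)) hd
    rw [SuzG2.card_H] at hd'
    norm_num at hd'
  have key : ∃ r ∈ R', r ≠ 1 ∧ g * r * g⁻¹ ∈ T' := by
    by_contra hne
    push Not at hne
    let f : T' × R' → (P : Subgroup H) := fun p =>
      ⟨p.1 * (g * p.2 * g⁻¹), (P : Subgroup H).mul_mem (hP p.1.2) (hconj _ p.2.2)⟩
    have hf : Function.Injective f := by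
      rintro ⟨t, r⟩ ⟨t', r'⟩ e
      have e' : (t : H) * (g * r * g⁻¹) = t' * (g * r' * g⁻¹) := congrArg Subtype.val e
      have hm : g * ((r : H) * (r' : H)⁻¹) * g⁻¹ = (t : H)⁻¹ * t' := by
        calc g * ((r : H) * (r' : H)⁻¹) * g⁻¹ = g * r * g⁻¹ * (g * r' * g⁻¹)⁻¹ := by group
          _ = (t : H)⁻¹ * ((t : H) * (g * r * g⁻¹)) * (g * r' * g⁻¹)⁻¹ := by group
          _ = _ := by rw [e']; group
      have hr : (r : H) * (r' : H)⁻¹ = 1 := by
        by_contra h1
        exact hne _ (R'.mul_mem r.2 (R'.inv_mem r'.2)) h1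
          (hm ▸ T'.mul_mem (T'.inv_mem t.2) t'.2)
      have hr' := mul_inv_eq_one.1 hr
      rw [hr'] at e'
      exact Prod.ext (Subtype.ext (mul_right_cancel e')) (Subtype.ext hr')
    have := Nat.card_le_card_of_injective f hf
    rw [Nat.card_prod, hTc, hRc, hn] at this
    have h2 := Nat.pow_le_pow_right (show 0 < 2 by norm_num) hn12
    norm_num at this h2
    omega
  obtain ⟨r, hr, hr1, hrT⟩ := key
  obtain ⟨k, hk, hk'⟩ := (Nat.dvd_prime_pow Nat.prime_two).1 (hRc ▸ orderOf_dvd_natCard (⟨r, hr⟩ : R'))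
  rw [Subgroup.orderOf_mk] at hk'
  rcases k with _ | m
  · rw [pow_zero, orderOf_eq_one_iff] at hk'
    exact absurd hk' hr1
  · have hs2 : r ^ 2 ^ m * r ^ 2 ^ m = 1 := by
      rw [← pow_add, ← two_mul, ← pow_succ', ← hk']
      exact pow_orderOf_eq_one r
    have hs1 : r ^ 2 ^ m ≠ 1 := fun e => by
      have hd := orderOf_dvd_of_pow_eq_one e
      rw [hk'] at hd
      have := Nat.le_of_dvd (Nat.two_pow_pos m) hd
      rw [pow_succ] at this
      have := Nat.two_pow_pos m
      omega
    have hroot : IsRoot ((r ^ 2 ^ m : H) : Cfsg.Spor.Suz) :=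
      root_of_R64 (R'.pow_mem hr _) (by rw [← Subgroup.coe_mul, hs2, Subgroup.coe_one])
        (fun e => hs1 (Subtype.ext e))
    refine ⟨(g : Cfsg.Spor.Suz) * ((r ^ 2 ^ m : H) : Cfsg.Spor.Suz) * (g : Cfsg.Spor.Suz)⁻¹, ?_,
      IsRoot.conj g.2 hroot⟩
    have hm : g * r ^ 2 ^ m * g⁻¹ ∈ T' := by
      rw [← conj_pow]
      exact T'.pow_mem hrT _
    obtain ⟨j, -, hj⟩ := Subgroup.mem_map.1 hm
    have := congrArg (fun x : H => (x : Cfsg.Spor.Suz)) hj
    simp only [ι, Subgroup.coe_inclusion, Subgroup.coe_mul, Subgroup.coe_inv] at this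
    rw [← this]
    exact j.2

/-! ### The orbit types -/

theorem trans_false {J : Subgroup Cfsg.Spor.Suz} (hJ : J ≤ H) (hc : Nat.card J = 604800) {p : Fin rep.N}
    (hp : D1.testBit p = true) (h : ∀ j : Fin rep.N, D1.testBit j = true → ∃ g ∈ J, phi g p = j) : False := by
  have := card_of_orbit (K := J) (p := p) (fun g hg => by rw [D1_inv (hJ hg), hp]) h
    (Nat.eq_of_beq_eq_true D0_cover.2.2.2)
  rw [hc] at this
  omega

/-- orbit data of a representative -/
def kd (c : ℕ) : ℕ × ℕ × ℕ × ℕ × ℕ × ℕ := kinds.getD c (0, 0, 0, 0, 0, 0)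

/-- the row of one of the three fixed neighbours -/
def rowOf (e : ℕ) : Row := cond (Nat.beq e 47) row47 (cond (Nat.beq e 304) row304 row1700)

/-- the invariant set for a representative -/
noncomputable def target (c : ℕ) : ℕ :=
  cond (Nat.beq (kd c).1 1) (Nat.land (Nat.land (rowOf (kd c).2.2.2.2.2).2.2 D1) (ones rep.N)) set105

/-- growing under the element of order 7 and a representative -/
noncomputable def growC (c p k : ℕ) : ℕ := grow [netY 1, candNet c] (one1 p) k

/-- the orbit data are right -/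
noncomputable def kindOK (c : ℕ) : Bool :=
  cond (Nat.beq (kd c).1 3)
    (Nat.blt (kd c).2.1 27 && Nat.blt (kd c).2.2.1 7 && sameNet (candNet c) (smNet (kd c).2.1 (kd c).2.2.1))
    (Nat.blt (kd c).2.1 rep.N && D1.testBit (kd c).2.1 &&
      cond (Nat.beq (kd c).1 0)
        (Nat.beq (Nat.land (growC c (kd c).2.1 (kd c).2.2.1) D1) D1)
        (Nat.blt (kd c).2.2.2.1 rep.N &&
          Nat.beq (Nat.land (Nat.lor (growC c (kd c).2.1 (kd c).2.2.1) (growC c (kd c).2.2.2.1 (kd c).2.2.2.2.1)) D1) D1 &&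
          Nat.beq (Nat.land (growC c (kd c).2.1 (kd c).2.2.1) (ones rep.N)) (target c) &&
          Nat.beq (Nat.land (target c) D1) (target c) &&
          cond (Nat.beq (kd c).1 1)
            (rowOK (rowOf (kd c).2.2.2.2.2) && D0.testBit (rowOf (kd c).2.2.2.2.2).1)
            (Nat.beq (kd c).1 2)))

theorem kinds_ok : (List.range 66).all kindOK = true := by decide +kernel

theorem images_ok : ((List.range 7).all fun i =>
    imgsOK (trees.getD i []) 1) = true := by decide +kernel

theorem set105_ok : (imgsOK (trees.getD 6 []) 1 &&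
    distinctB (imgs (trees.getD 6 []) [Nat.land set105 (ones rep.N)]) &&
    Nat.ble 417 (imgs (trees.getD 6 []) [Nat.land set105 (ones rep.N)]).length) = true := by decide +kernel

theorem neighbours_ok : (rowOK row304 && Nat.beq row304.1 304 && rowOK row72 && Nat.beq row72.1 72 &&
    !(Nat.beq (Nat.land (Nat.land row47.2.2 D1) (ones rep.N)) (Nat.land (Nat.land row304.2.2 D1) (ones rep.N))) &&
    !(Nat.beq (Nat.land (Nat.land row47.2.2 D1) (ones rep.N)) (Nat.land (Nat.land row72.2.2 D1) (ones rep.N))) &&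
    Nat.beq (Nat.land (grow ([0, 2, 4].map netEl) (Nat.lor (one1 304) (one1 72)) (rounds.getD 2 0))
      (Nat.land D0 (Nat.xor (ones rep.N) (one1 47)))) (Nat.land D0 (Nat.xor (ones rep.N) (one1 47))) &&
    [0, 2, 4].all (fun k => sendsB (netEl k) 47 47)) = true := by decide +kernel

/-- every other neighbour is in the orbit of 304 or of 72 -/
theorem nbr_cases {r : Fin rep.N} (hr : D0.testBit r = true) (hne : r ≠ q47) :
    ∃ g ∈ Subgroup.closure (el '' {k | k ∈ [0, 2, 4]}), phi g q304 = r ∨ phi g q72 = r := by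
  have h := neighbours_ok
  simp only [Bool.and_eq_true] at h
  have hbit : (Nat.land D0 (Nat.xor (ones rep.N) (one1 47))).testBit r = true := by
    simp only [show ∀ a b : ℕ, Nat.land a b = a &&& b from fun _ _ => rfl,
      show ∀ a b : ℕ, Nat.xor a b = a ^^^ b from fun _ _ => rfl, Nat.testBit_and, Nat.testBit_xor,
      testBit_all, testBit_one1, hr, Bool.true_and]
    rw [decide_eq_false fun e => hne (Fin.ext e)]
    rfl
  obtain ⟨g, hg, hb⟩ := grow_spec (K := Subgroup.closure (el '' {k | k ∈ [0, 2, 4]})) (fun l hl => by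
    obtain ⟨k, hk, rfl⟩ := List.mem_map.1 hl
    exact ⟨el k, Subgroup.subset_closure ⟨k, hk, rfl⟩, net_el k⟩) (sub_of_land h.1.2 hbit)
  refine ⟨g⁻¹, Subgroup.inv_mem _ hg, ?_⟩
  rw [show ∀ a b : ℕ, Nat.lor a b = a ||| b from fun _ _ => rfl, Nat.testBit_or, Bool.or_eq_true,
    testBit_one1, testBit_one1, decide_eq_true_eq, decide_eq_true_eq] at hb
  rw [map_inv]
  rcases hb with hb | hb
  · exact Or.inl ((Equiv.symm_apply_eq _).2 (Fin.ext hb).symm)
  · exact Or.inr ((Equiv.symm_apply_eq _).2 (Fin.ext hb).symm)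

theorem gens3_le : Subgroup.closure (el '' {k | k ∈ [0, 2, 4]}) ≤ H ⊓ St q47 := by
  refine (Subgroup.closure_le _).2 ?_
  rintro _ ⟨k, hk, rfl⟩
  have h := neighbours_ok
  simp only [Bool.and_eq_true, List.all_eq_true] at h
  refine ⟨el_mem_H ?_, sendsE (h.2 k hk)⟩
  simp only [Set.mem_setOf_eq, List.mem_cons, List.not_mem_nil, or_false] at hk
  omega

theorem testBit_land' (a b i : ℕ) : (Nat.land a b).testBit i = (a.testBit i && b.testBit i) :=
  Nat.testBit_and a b i

theorem adj_unique {q q' : Fin rep.N} (hq : D0.testBit q = true) (hq' : D0.testBit q' = true)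
    (h : ∀ j : Fin rep.N, D1.testBit j = true → (Adj q j ↔ Adj q' j)) : q' = q := by
  obtain ⟨a, ha, rfl⟩ := D0_trans hq
  set r := phi a⁻¹ q' with hr
  have hr0 : D0.testBit r = true := by rw [hr, D0_inv (H.inv_mem ha), hq']
  have haq : phi a r = q' := by
    rw [hr, ← Equiv.Perm.mul_apply, ← map_mul, mul_inv_cancel, map_one, Equiv.Perm.one_apply]
  by_contra hne
  obtain ⟨g, hg, hgr⟩ := nbr_cases hr0 fun e => hne (by rw [← haq, e])
  obtain ⟨hgH, hg47⟩ := gens3_le hg
  have key : ∀ s : Fin rep.N, phi g s = r → ∀ j : Fin rep.N, D1.testBit j = true → (Adj q47 j ↔ Adj s j) := by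
    intro s hs j hj
    rw [← pres_phi (a * g) q47 j, ← pres_phi (a * g) s j]
    simp only [map_mul, Equiv.Perm.mul_apply, mem_St.1 hg47, hs, haq]
    exact h _ (by rw [D1_inv ha, D1_inv hgH, hj])
  have hn := neighbours_ok
  simp only [Bool.and_eq_true, Bool.not_eq_true'] at hn
  obtain ⟨⟨⟨⟨⟨⟨⟨r1, r1'⟩, r2⟩, r2'⟩, d1⟩, d2⟩, -⟩, -⟩ := hn
  have h47 := row47_ok
  rw [Bool.and_eq_true] at h47
  have eqmask : ∀ {R : Row} (hR : rowOK R = true),
      (∀ j : Fin rep.N, D1.testBit j = true → (Adj q47 j ↔ Adj ⟨R.1, rowOK_lt hR⟩ j)) →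
      Nat.land (Nat.land row47.2.2 D1) (ones rep.N) = Nat.land (Nat.land R.2.2 D1) (ones rep.N) := by
    intro R hR hk
    refine Nat.eq_of_testBit_eq fun i => ?_
    rw [testBit_land_ones, testBit_land_ones]
    rcases lt_or_ge i rep.N with hi | hi
    · rw [decide_eq_true hi, Bool.and_true, Bool.and_true, testBit_land' row47.2.2 D1 i,
        testBit_land' R.2.2 D1 i]
      cases hd : D1.testBit i
      · simp
      · rw [Bool.and_true, Bool.and_true, Bool.eq_iff_iff,
          show i = ((⟨i, hi⟩ : Fin rep.N) : ℕ) from rfl, ← rowOK_spec h47.1, ← rowOK_spec hR,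
          show (⟨row47.1, rowOK_lt h47.1⟩ : Fin rep.N) = q47 from Fin.ext (Nat.eq_of_beq_eq_true h47.2)]
        exact hk ⟨i, hi⟩ hd
    · rw [decide_eq_false (not_lt.2 hi), Bool.and_false, Bool.and_false]
  rcases hgr with hgr | hgr
  · rw [eqmask r1 (by
      rw [show (⟨row304.1, rowOK_lt r1⟩ : Fin rep.N) = q304 from Fin.ext (Nat.eq_of_beq_eq_true r1')]
      exact key _ hgr), Nat.beq_refl] at d1
    exact absurd d1 (by decide)
  · rw [eqmask r2 (by
      rw [show (⟨row72.1, rowOK_lt r2⟩ : Fin rep.N) = q72 from Fin.ext (Nat.eq_of_beq_eq_true r2')]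
      exact key _ hgr), Nat.beq_refl] at d2
    exact absurd d2 (by decide)

theorem good_of_kind {J : Subgroup Cfsg.Spor.Suz} (hJ : J ≤ H) (hc : Nat.card J = 604800) (hy : el 0 ∈ J)
    {c : ℕ} (hc66 : c < 66) (hk3 : (kd c).1 ≠ 3) (hz : cand c ∈ J) : Good J := by
  have hls : ∀ l ∈ [netY 1, candNet c], ∃ g ∈ J, NetOf l (phi g) := by
    intro l hl
    simp only [List.mem_cons, List.not_mem_nil, or_false] at hl
    rcases hl with rfl | rfl
    · exact ⟨el 0 ^ 1, by rwa [pow_one], net_Y (by norm_num)⟩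
    · exact ⟨_, hz, net_cand c⟩
  have h := List.all_eq_true.1 kinds_ok c (List.mem_range.2 hc66)
  rw [kindOK, show Nat.beq (kd c).1 3 = false from Bool.eq_false_iff.2 fun e => hk3 (Nat.eq_of_beq_eq_true e),
    cond_false, Bool.and_eq_true, Bool.and_eq_true, Nat.blt_eq] at h
  obtain ⟨⟨hp, hp1⟩, h⟩ := h
  cases h0 : Nat.beq (kd c).1 0
  · rw [h0, cond_false] at h
    simp only [Bool.and_eq_true, Nat.blt_eq] at h
    obtain ⟨⟨⟨⟨hp2, hcov⟩, hS⟩, hsub⟩, hlast⟩ := h
    set p : Fin rep.N := ⟨_, hp⟩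
    set p2 : Fin rep.N := ⟨_, hp2⟩
    have hgrowS : ∀ j : Fin rep.N, (target c).testBit j = true ↔ (growC c p (kd c).2.2.1).testBit j = true := by
      intro j
      rw [← Nat.eq_of_beq_eq_true hS, testBit_land_ones, decide_eq_true j.2, Bool.and_true]
    have hpres : ∀ x ∈ J, ∀ j : Fin rep.N, (target c).testBit j = true → (target c).testBit (phi x j) = true := by
      intro x hx j hj
      by_contra hne
      obtain ⟨g, hg, hgj⟩ := grow_one (p := p) hls ((hgrowS j).1 hj)
      have hj1 : D1.testBit (phi x j) = true := by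
        rw [D1_inv (hJ hx)]
        have := congrArg (fun m => m.testBit (j : ℕ)) (Nat.eq_of_beq_eq_true hsub)
        rw [show ∀ a b : ℕ, Nat.land a b = a &&& b from fun _ _ => rfl] at this
        simpa [Nat.testBit_and, hj] using this
      have hb := sub_of_land hcov hj1
      rw [show ∀ a b : ℕ, Nat.lor a b = a ||| b from fun _ _ => rfl, Nat.testBit_or, Bool.or_eq_true] at hb
      rcases hb with hb | hb
      · exact hne ((hgrowS _).2 hb)
      · obtain ⟨g2, hg2, hg2j⟩ := grow_one (p := p2) hls hb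
        refine trans_false hJ hc (p := p) hp1 fun i hi => ?_
        have hbi := sub_of_land hcov hi
        rw [show ∀ a b : ℕ, Nat.lor a b = a ||| b from fun _ _ => rfl, Nat.testBit_or, Bool.or_eq_true] at hbi
        rcases hbi with hbi | hbi
        · exact grow_one hls hbi
        · obtain ⟨g3, hg3, hg3i⟩ := grow_one (p := p2) hls hbi
          refine ⟨g3 * g2⁻¹ * x * g, J.mul_mem (J.mul_mem (J.mul_mem hg3 (J.inv_mem hg2)) hx) hg, ?_⟩
          rw [map_mul, map_mul, map_mul, map_inv, Equiv.Perm.mul_apply, Equiv.Perm.mul_apply,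
            Equiv.Perm.mul_apply, hgj, ← hg2j, Equiv.Perm.inv_def, Equiv.symm_apply_apply, hg3i]
    have hiff : ∀ x ∈ J, ∀ j : Fin rep.N, (target c).testBit (phi x j) = (target c).testBit j := by
      intro x hx j
      rw [Bool.eq_iff_iff]
      refine ⟨fun hj => ?_, hpres x hx j⟩
      have := hpres x⁻¹ (J.inv_mem hx) _ hj
      rwa [map_inv, Equiv.Perm.inv_def, Equiv.symm_apply_apply] at this
    cases h1 : Nat.beq (kd c).1 1
    · exfalso
      have ht : target c = set105 := by rw [target, h1, cond_false]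
      rw [ht] at hiff
      have := card_lt_of_imgs hJ hiff set105_ok
      omega
    · rw [h1, cond_true, Bool.and_eq_true] at hlast
      set e := rowOf (kd c).2.2.2.2.2
      set q : Fin rep.N := ⟨e.1, rowOK_lt hlast.1⟩
      have hrow : ∀ j : Fin rep.N, D1.testBit j = true → (Adj q j ↔ (target c).testBit j = true) := by
        intro j hj
        rw [rowOK_spec hlast.1, target, h1, cond_true, testBit_land_ones, decide_eq_true j.2, Bool.and_true,
          show ∀ a b : ℕ, Nat.land a b = a &&& b from fun _ _ => rfl, Nat.testBit_and, hj, Bool.and_true]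
      refine ⟨q, hlast.2, fun x hx => adj_unique hlast.2 ?_ fun j hj => ?_⟩
      · rw [D0_inv (hJ hx)]; exact hlast.2
      · have hj' : D1.testBit (phi x⁻¹ j) = true := by rw [D1_inv (H.inv_mem (hJ hx)), hj]
        have e1 : phi x (phi x⁻¹ j) = j := by
          rw [← Equiv.Perm.mul_apply, ← map_mul, mul_inv_cancel, map_one, Equiv.Perm.one_apply]
        rw [hrow j hj, ← hiff x⁻¹ (J.inv_mem hx) j, ← hrow _ hj', ← pres_phi x q (phi x⁻¹ j), e1]
  · rw [h0, cond_true] at h
    exact (trans_false hJ hc (p := ⟨_, hp⟩) hp1 fun j hj => grow_one hls (sub_of_land h hj)).elim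

theorem good_of_conj {J : Subgroup Cfsg.Spor.Suz} (hJ : J ≤ H) (hc : Nat.card J = 604800) (hy : el 0 ∈ J)
    {n : Cfsg.Spor.Suz} (hn : n ∈ Kn) {c : ℕ} (hc66 : c < 66) (hk3 : (kd c).1 ≠ 3)
    (hz : n * cand c * n⁻¹ ∈ J) : Good J := by
  have := finite_suz
  let J' : Subgroup Cfsg.Spor.Suz := J.map (MulAut.conj n⁻¹).toMonoidHom
  have mem : ∀ x, x ∈ J → n⁻¹ * x * n ∈ J' := fun x hx =>
    Subgroup.mem_map.2 ⟨x, hx, by simp [MulAut.conj_apply]⟩
  have hJ' : J' ≤ H := by
    rintro _ ⟨x, hx, rfl⟩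
    simpa [MulAut.conj_apply] using H.mul_mem (H.mul_mem (H.inv_mem (Kn_le_H hn)) (hJ hx)) (Kn_le_H hn)
  have hc' : Nat.card J' = 604800 := by
    rw [Subgroup.card_map_of_injective (MulAut.conj n⁻¹).injective, hc]
  obtain ⟨r, hr⟩ := Kn_y hn
  have hy' : el 0 ∈ J' := by
    have := mem _ (J.pow_mem hy r)
    rwa [mul_assoc, ← hr, inv_mul_cancel_left] at this
  obtain ⟨q, hq, hfix⟩ := good_of_kind hJ' hc' hy' hc66 hk3 (by
    have := mem _ hz
    simpa [mul_assoc] using this)
  refine ⟨phi n q, by rw [D0_inv (Kn_le_H hn), hq], fun x hx => ?_⟩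
  conv_rhs => rw [← hfix _ (mem x hx)]
  rw [← Equiv.Perm.mul_apply, ← Equiv.Perm.mul_apply, ← map_mul, ← map_mul]
  congr 2
  group

theorem small_or_good {J : Subgroup Cfsg.Spor.Suz} (hJ : J ≤ H) (hc : Nat.card J = 604800) (hy : el 0 ∈ J)
    {z : Cfsg.Spor.Suz} (hz : z ∈ J) (hr : IsRoot z) : Good J ∨ Small z := by
  obtain ⟨n, hn, c, hc66, rfl⟩ := root_cases hr
  by_cases hk : (kd c).1 = 3
  · right
    have h := List.all_eq_true.1 kinds_ok c (List.mem_range.2 hc66)
    rw [kindOK, show Nat.beq (kd c).1 3 = true by rw [hk]; rfl, cond_true] at h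
    simp only [Bool.and_eq_true, Nat.blt_eq] at h
    refine small_conj hn ?_
    rw [eq_of_nets (net_cand c) (net_sm h.1.1 h.1.2) h.2]
    exact small_of h.1.1 _
  · exact Or.inl (good_of_conj hJ hc hy hn hc66 hk hz)

/-! ### The closed classes -/

/-- running a closure certificate -/
noncomputable def certRun : List (ℕ × ℕ × ℕ × ℕ × ℕ) → List ℕ → List ℕ → Bool
  | [], known, goal => goal.all known.contains
  | (d, j, a, i, b) :: st, known, goal =>
    known.contains a && known.contains b && Nat.blt d 27 && Nat.blt a 27 && Nat.blt b 27 && Nat.blt i 7 &&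
      Nat.blt j 7 && sameNet (smNet a i ++ smNet b 0 ++ smNet a i) (smNet d j) && certRun st (d :: known) goal

theorem certRun_spec {J : Subgroup Cfsg.Spor.Suz} (hy : el 0 ∈ J) :
    ∀ {st : List (ℕ × ℕ × ℕ × ℕ × ℕ)} {known goal : List ℕ}, certRun st known goal = true →
      (∀ k ∈ known, ∀ i, sm k i ∈ J) → ∀ k ∈ goal, ∀ i, sm k i ∈ J
  | [], known, goal, h, hk => fun k hk' =>
    hk k (List.contains_iff_mem.1 (List.all_eq_true.1 h k hk'))
  | (d, j, a, i, b) :: st, known, goal, h, hk => by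
    simp only [certRun, Bool.and_eq_true, Nat.blt_eq] at h
    obtain ⟨⟨⟨⟨⟨⟨⟨⟨ha, hb⟩, hd⟩, ha'⟩, hb'⟩, hi⟩, hj⟩, hs⟩, hrest⟩ := h
    refine certRun_spec hy hrest fun k hk' l => ?_
    rcases List.mem_cons.1 hk' with rfl | hk'
    · have e : sm a i * sm b 0 * sm a i = sm k j := eq_of_nets
        (by rw [map_mul, map_mul]; exact ((net_sm ha' hi).mul (net_sm hb' (by norm_num))).mul (net_sm ha' hi))
        (net_sm hd hj) hs
      have hdj : sm k j ∈ J := e ▸ J.mul_mem (J.mul_mem (hk a (List.contains_iff_mem.1 ha) i)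
        (hk b (List.contains_iff_mem.1 hb) 0)) (hk a (List.contains_iff_mem.1 ha) i)
      rw [← sm_mod k l, show l % 7 = (l + 6 * j + j) % 7 by omega, sm_mod, ← sm_conj_y]
      exact J.mul_mem (J.mul_mem (J.pow_mem hy _) hdj) (J.inv_mem (J.pow_mem hy _))
    · exact hk k hk' l

/-- the class of a small representative -/
def mOf (k : ℕ) : ℕ := (certs.getD k (0, [])).1

/-- the closed class -/
def cls (m : ℕ) : List ℕ := clsList.getD m []

/-- the certificate of a small representative is right -/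
noncomputable def certOK (k : ℕ) : Bool :=
  Nat.blt (mOf k) 6 && (cls (mOf k)).contains k && (cls (mOf k)).all (fun x => Nat.blt x 27) &&
    certRun (certs.getD k (0, [])).2 [k] (cls (mOf k))

theorem certs_ok0 : (List.range 9).all (fun k => certOK k) = true := by decide +kernel
theorem certs_ok1 : (List.range 9).all (fun k => certOK (9 + k)) = true := by decide +kernel
theorem certs_ok2 : (List.range 9).all (fun k => certOK (18 + k)) = true := by decide +kernel

theorem certs_ok {k : ℕ} (hk : k < 27) : certOK k = true := by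
  have get : ∀ {o : ℕ}, (List.range 9).all (fun j => certOK (o + j)) = true → o ≤ k → k < o + 9 → certOK k = true := by
    intro o h h1 h2
    have := List.all_eq_true.1 h (k - o) (List.mem_range.2 (by omega))
    rwa [Nat.add_sub_cancel' h1] at this
  by_cases h : k < 9
  · exact List.all_eq_true.1 certs_ok0 k (List.mem_range.2 h)
  by_cases h : k < 18
  · exact get certs_ok1 (by omega) (by omega)
  exact get certs_ok2 (by omega) (by omega)

theorem cert_mem {J : Subgroup Cfsg.Spor.Suz} (hy : el 0 ∈ J) {k i : ℕ} (hk : k < 27) (h : sm k i ∈ J) :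
    ∀ k' ∈ cls (mOf k), ∀ i', sm k' i' ∈ J := by
  have hc := certs_ok hk
  simp only [certOK, Bool.and_eq_true] at hc
  refine certRun_spec hy hc.2 fun x hx l => ?_
  rw [List.mem_singleton] at hx
  subst hx
  rw [← sm_mod x l, show l % 7 = (l + 6 * i + i) % 7 by omega, sm_mod, ← sm_conj_y]
  exact J.mul_mem (J.mul_mem (J.pow_mem hy _) h) (J.inv_mem (J.pow_mem hy _))

/-- a product of two small elements is not small -/
noncomputable def compatOK (M m : ℕ) (e : ℕ × ℕ × ℕ × ℕ × ℕ × List ℕ × ℕ) : Bool :=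
  Nat.beq e.1 M && Nat.beq e.2.1 m && (cls M).contains e.2.2.1 && Nat.blt e.2.2.2.1 7 &&
    (cls m).contains e.2.2.2.2.1 && Nat.blt e.2.2.2.2.2.2 66 && !(Nat.beq (kd e.2.2.2.2.2.2).1 3) &&
    e.2.2.2.2.2.1.all (fun x => [0, 1, 2].contains x) &&
    sameNet (smNet e.2.2.1 e.2.2.2.1 ++ smNet e.2.2.2.2.1 0 ++ smNet e.2.2.1 e.2.2.2.1 ++ flatN e.2.2.2.2.2.1)
      (flatN e.2.2.2.2.2.1 ++ candNet e.2.2.2.2.2.2)

theorem compat_ok : ((List.range 6).all fun M => (List.range 6).all fun m =>
    Nat.beq M 3 || (cls m).all (cls M).contains || compat.any (compatOK M m)) = true := by decide +kernel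

/-- the elements of a closed class -/
def clsEls (m : ℕ) : List (ℕ × ℕ) := (cls m).flatMap fun k => (List.range 7).map fun i => (k, i)

/-- a set attached to a closed class -/
noncomputable def classSet (m : ℕ) : ℕ :=
  (clsEls m).foldr (fun e S => force S fun S => Nat.land S (selM (fixKind.getD m false) (fixMask (smNet e.1 e.2))))
    (Nat.land D0 (ones rep.N))

/-- the set of a class has many images -/
noncomputable def classSetOK (m : ℕ) : Bool :=
  (cls m).all (fun x => Nat.blt x 27) &&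
    (imgsOK (trees.getD m []) 1 && distinctB (imgs (trees.getD m []) [Nat.land (classSet m) (ones rep.N)]) &&
    Nat.ble 417 (imgs (trees.getD m []) [Nat.land (classSet m) (ones rep.N)]).length)

theorem classSet_ok0 : classSetOK 0 = true := by decide +kernel
theorem classSet_ok1 : classSetOK 1 = true := by decide +kernel
theorem classSet_ok2 : classSetOK 2 = true := by decide +kernel
theorem classSet_ok3 : classSetOK 3 = true := by decide +kernel
theorem classSet_ok4 : classSetOK 4 = true := by decide +kernel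
theorem classSet_ok5 : classSetOK 5 = true := by decide +kernel

theorem classSet_ok {m : ℕ} (hm : m < 6) : classSetOK m = true := by
  rcases m with _ | _ | _ | _ | _ | _ | m
  exacts [classSet_ok0, classSet_ok1, classSet_ok2, classSet_ok3, classSet_ok4, classSet_ok5, by omega]

theorem classSet_bit (m : ℕ) (hm : ∀ x ∈ cls m, x < 27) (j : Fin rep.N) :
    (classSet m).testBit j = true ↔ D0.testBit j = true ∧
      ∀ k ∈ cls m, ∀ i < 7, ((phi (sm k i) j = j) ↔ fixKind.getD m false = true) := by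
  have main : ∀ L : List (ℕ × ℕ), (∀ e ∈ L, e.1 < 27 ∧ e.2 < 7) →
      ((L.foldr (fun e S => force S fun S =>
        Nat.land S (selM (fixKind.getD m false) (fixMask (smNet e.1 e.2)))) (Nat.land D0 (ones rep.N))).testBit j = true
      ↔ D0.testBit j = true ∧ ∀ e ∈ L, ((phi (sm e.1 e.2) j = j) ↔ fixKind.getD m false = true)) := by
    intro L
    induction L with
    | nil => intro _; rw [List.foldr_nil, testBit_land_ones]; simp
    | cons e L ih =>
      intro hL
      rw [List.foldr_cons, force_eq, show ∀ a b : ℕ, Nat.land a b = a &&& b from fun _ _ => rfl, Nat.testBit_and,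
        Bool.and_eq_true, List.forall_mem_cons]
      have h1 := ih fun f hf => hL f (List.mem_cons_of_mem _ hf)
      have hn := net_sm (hL e List.mem_cons_self).1 (hL e List.mem_cons_self).2
      rw [h1, selM_bit, ← fixMask_spec hn]
      cases (fixMask (smNet e.1 e.2)).testBit j <;> cases fixKind.getD m false <;> simp
  rw [classSet, main (clsEls m) fun e he => by
    simp only [clsEls, List.mem_flatMap, List.mem_map, List.mem_range] at he
    obtain ⟨k, hk, i, hi, rfl⟩ := he
    exact ⟨hm k hk, hi⟩]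
  refine and_congr_right fun _ => ⟨fun h k hk i hi => h (k, i) ?_, ?_⟩
  · simp only [clsEls, List.mem_flatMap, List.mem_map, List.mem_range]
    exact ⟨k, hk, i, hi, rfl⟩
  · intro h e he
    simp only [clsEls, List.mem_flatMap, List.mem_map, List.mem_range] at he
    obtain ⟨k, hk, i, hi, rfl⟩ := he
    exact h k hk i hi

theorem good_of_y {J : Subgroup Cfsg.Spor.Suz} (hJ : J ≤ H) (hc : Nat.card J = 604800) (hy : el 0 ∈ J) :
    Good J := by
  by_contra hng
  have hsmall : ∀ z ∈ J, IsRoot z → Small z := fun z hz hr => (small_or_good hJ hc hy hz hr).resolve_left hng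
  obtain ⟨z, hz, hr⟩ := exists_root hJ hc
  obtain ⟨k0, hk0, i0, -, rfl⟩ := hsmall z hz hr
  obtain ⟨K, hK, iK, hKJ, hmax⟩ : ∃ K, ∃ _ : K < 27, ∃ iK, sm K iK ∈ J ∧
      ∀ k < 27, ∀ i, sm k i ∈ J → mOf K = 3 → mOf k = 3 := by
    by_cases h : ∃ k < 27, ∃ i, sm k i ∈ J ∧ mOf k ≠ 3
    · obtain ⟨k, hk, i, hki, hne⟩ := h
      exact ⟨k, hk, i, hki, fun _ _ _ _ e => absurd e hne⟩
    · push Not at h
      exact ⟨k0, hk0, i0, hz, fun k hk i hki _ => h k hk i hki⟩
  set M := mOf K with hM
  have hin : ∀ k' ∈ cls M, ∀ i', sm k' i' ∈ J := cert_mem hy hK hKJ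
  have hcerts := fun k (hk : k < 27) => certs_ok hk
  simp only [certOK, Bool.and_eq_true, Nat.blt_eq] at hcerts
  have hclass : ∀ k < 27, ∀ i, sm k i ∈ J → k ∈ cls M := by
    intro k hk i hki
    have hkm : k ∈ cls (mOf k) := List.contains_iff_mem.1 (hcerts k hk).1.1.2
    by_cases h3 : M = 3
    · rw [h3]; rw [hmax k hk i hki h3] at hkm; exact hkm
    have hcp := compat_ok
    simp only [List.all_eq_true (l := List.range 6), List.mem_range] at hcp
    have hcp := hcp M (hcerts K hK).1.1.1 (mOf k) (hcerts k hk).1.1.1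
    rw [Bool.or_eq_true, Bool.or_eq_true] at hcp
    rcases hcp with (hcp | hcp) | hcp
    · exact absurd (Nat.eq_of_beq_eq_true hcp) h3
    · exact List.contains_iff_mem.1 (List.all_eq_true.1 hcp k hkm)
    · exfalso
      obtain ⟨⟨M', m', a, ia, b, nw, c⟩, -, he⟩ := List.any_eq_true.1 hcp
      simp only [compatOK, Bool.and_eq_true, Nat.blt_eq, Bool.not_eq_true'] at he
      obtain ⟨⟨⟨⟨⟨⟨⟨⟨-, -⟩, ha⟩, hia⟩, hb⟩, hc66⟩, hk3⟩, hnw⟩, hs⟩ := he
      have ha' : a ∈ cls M := List.contains_iff_mem.1 ha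
      have hb' : b ∈ cls (mOf k) := List.contains_iff_mem.1 hb
      have ha27 : a < 27 := Nat.blt_eq.mp (List.all_eq_true.1 (hcerts K hK).1.2 a ha')
      have hb27 : b < 27 := Nat.blt_eq.mp (List.all_eq_true.1 (hcerts k hk).1.2 b hb')
      have hn : elW nw ∈ Kn := elW_mem fun x hx =>
        el_mem_Kn (List.contains_iff_mem.1 (List.all_eq_true.1 hnw x hx))
      have hzJ : sm a ia * sm b 0 * sm a ia ∈ J :=
        J.mul_mem (J.mul_mem (hin a ha' ia) (cert_mem hy hk hki b hb' 0)) (hin a ha' ia)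
      have e : sm a ia * sm b 0 * sm a ia * elW nw = elW nw * cand c := eq_of_nets
        (by rw [map_mul, map_mul, map_mul]
            exact (((net_sm ha27 hia).mul (net_sm hb27 (by norm_num))).mul (net_sm ha27 hia)).mul (net_elW _))
        (by rw [map_mul]; exact (net_elW _).mul (net_cand c)) hs
      refine hng (good_of_conj hJ hc hy hn hc66 (fun e3 => ?_) (eq_mul_inv_of_mul_eq e ▸ hzJ))
      rw [e3, Nat.beq_refl] at hk3
      exact absurd hk3 (by decide)
  have hcs := classSet_ok (hcerts K hK).1.1.1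
  rw [classSetOK, Bool.and_eq_true] at hcs
  have hM27 : ∀ x ∈ cls M, x < 27 := fun x hx => Nat.blt_eq.mp (List.all_eq_true.1 hcs.1 x hx)
  have hinv : ∀ x ∈ J, ∀ j : Fin rep.N, (classSet M).testBit j = true → (classSet M).testBit (phi x j) = true := by
    intro x hx j hj
    rw [classSet_bit M hM27] at hj ⊢
    refine ⟨by rw [D0_inv (hJ hx), hj.1], fun k hk i hi => ?_⟩
    have hroot : IsRoot (x⁻¹ * sm k i * x) := by
      simpa using IsRoot.conj (H.inv_mem (hJ hx)) (isRoot_sm (hM27 k hk) i)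
    have hmem : x⁻¹ * sm k i * x ∈ J := J.mul_mem (J.mul_mem (J.inv_mem hx) (hin k hk i)) hx
    obtain ⟨k', hk', i', hi', e⟩ := hsmall _ hmem hroot
    have hk'M : k' ∈ cls M := hclass k' hk' i' (e ▸ hmem)
    rw [← hj.2 k' hk'M i' hi', ← e, map_mul, map_mul, map_inv, Equiv.Perm.mul_apply, Equiv.Perm.mul_apply,
      Equiv.Perm.inv_def, Equiv.symm_apply_eq]
  have hiff : ∀ x ∈ J, ∀ j : Fin rep.N, (classSet M).testBit (phi x j) = (classSet M).testBit j := by
    intro x hx j
    rw [Bool.eq_iff_iff]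
    refine ⟨fun hj => ?_, hinv x hx j⟩
    have := hinv x⁻¹ (J.inv_mem hx) _ hj
    rwa [map_inv, Equiv.Perm.inv_def, Equiv.symm_apply_apply] at this
  have := card_lt_of_imgs hJ hiff hcs.2
  omega

/-- A subgroup of order 604800 of the point stabiliser fixes a neighbour. -/
theorem good_of_card {J : Subgroup Cfsg.Spor.Suz} (hJ : J ≤ H) (hc : Nat.card J = 604800) : Good J := by
  have := finite_suz
  have : Fact (Nat.Prime 7) := ⟨by norm_num⟩
  obtain ⟨z, hz⟩ := exists_prime_orderOf_dvd_card' (G := J) 7 (by rw [hc]; norm_num)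
  obtain ⟨x, hx, i, hi⟩ := conj_seven (L := H) (by rw [SuzG2.card_H]; norm_num) (el_mem_H (by decide)) (hJ z.2)
    orderOf_y ((Subgroup.orderOf_coe z).trans hz)
  let J' : Subgroup Cfsg.Spor.Suz := J.map (MulAut.conj x⁻¹).toMonoidHom
  have mem : ∀ t, t ∈ J → x⁻¹ * t * x ∈ J' := fun t ht =>
    Subgroup.mem_map.2 ⟨t, ht, by simp [MulAut.conj_apply]⟩
  have hJ' : J' ≤ H := by
    rintro _ ⟨t, ht, rfl⟩
    simpa [MulAut.conj_apply] using H.mul_mem (H.mul_mem (H.inv_mem hx) (hJ ht)) hx
  have hy' : el 0 ∈ J' := by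
    have := mem _ (J.pow_mem z.2 i)
    rw [← hi] at this
    simpa [mul_assoc] using this
  obtain ⟨q, hq, hfix⟩ := good_of_y hJ'
    (by rw [Subgroup.card_map_of_injective (MulAut.conj x⁻¹).injective, hc]) hy'
  refine ⟨phi x q, by rw [D0_inv hx, hq], fun t ht => ?_⟩
  conv_rhs => rw [← hfix _ (mem t ht)]
  rw [← Equiv.Perm.mul_apply, ← Equiv.Perm.mul_apply, ← map_mul, ← map_mul]
  congr 2
  group

end CfsgLib.SuzRankThree
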