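import Cfsg.Agent.Lib.SuzRankThree.Cents

/-!
A class of involutions of the point stabiliser up to conjugation by the normaliser of an element of order 7.
-/
set_option autoImplicit false
set_option maxRecDepth 8000

namespace CfsgLib.SuzRankThree

open CfsgLib.Presented CfsgLib.Presented.Vec CfsgLib.OutSuz
open CfsgLib.Presented.SuzCosets (phi phi_ev rep_valid ev H)
open CfsgLib.Presented.SuzCert (rep)
open CfsgLib.Presented.SuzOrder (phi_injective)

theorem closure_pred {S : Set Cfsg.Spor.Suz} {P : Cfsg.Spor.Suz → Prop} (h1 : P 1)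
    (hm : ∀ a b, P a → P b → P (a * b)) (hg : ∀ a ∈ S, P a) {x : Cfsg.Spor.Suz}
    (hx : x ∈ Subgroup.closure S) : P x := by
  have := finite_suz
  rw [← Subgroup.mem_toSubmonoid, Subgroup.closure_toSubmonoid_of_finite] at hx
  induction hx using Submonoid.closure_induction with
  | mem y hy => exact hg y hy
  | one => exact h1
  | mul a b _ _ ha hb => exact hm a b ha hb

/-- A finite subgroup with no elements of order 49 has all subgroups of order 7 conjugate. -/
theorem conj_seven {L : Subgroup Cfsg.Spor.Suz} (hL : ¬ 49 ∣ Nat.card L) {y z : Cfsg.Spor.Suz}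
    (hy : y ∈ L) (hz : z ∈ L) (oy : orderOf y = 7) (oz : orderOf z = 7) :
    ∃ x ∈ L, ∃ i : ℕ, x * y * x⁻¹ = z ^ i := by
  have := finite_suz
  have : Fact (Nat.Prime 7) := ⟨by norm_num⟩
  have key : ∀ t : L, orderOf t = 7 → ∃ P : Sylow 7 L, (P : Subgroup L) = Subgroup.zpowers t := by
    intro t ht
    have hp : IsPGroup 7 (Subgroup.zpowers t) :=
      IsPGroup.of_card (n := 1) (by rw [Nat.card_zpowers, ht, pow_one])
    obtain ⟨P, hP⟩ := hp.exists_le_sylow
    refine ⟨P, (Subgroup.eq_of_le_of_card_ge hP ?_).symm⟩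
    obtain ⟨n, hn⟩ := IsPGroup.iff_card.1 P.isPGroup'
    have hd : 7 ^ n ∣ Nat.card L := hn ▸ Subgroup.card_subgroup_dvd_card _
    rw [Nat.card_zpowers, ht, hn]
    rcases Nat.lt_or_ge n 2 with h | h
    · calc 7 ^ n ≤ 7 ^ 1 := Nat.pow_le_pow_right (by norm_num) (Nat.lt_succ_iff.1 h)
        _ = 7 := pow_one 7
    · exact absurd (dvd_trans (pow_dvd_pow 7 h) hd) hL
  obtain ⟨P, hP⟩ := key ⟨y, hy⟩ (by rw [← oy]; exact (Subgroup.orderOf_coe _).symm)
  obtain ⟨Q, hQ⟩ := key ⟨z, hz⟩ (by rw [← oz]; exact (Subgroup.orderOf_coe _).symm)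
  obtain ⟨g, hg⟩ := MulAction.exists_smul_eq L P Q
  have h1 : g * ⟨y, hy⟩ * g⁻¹ ∈ (Q : Subgroup L) := by
    rw [← hg, Sylow.coe_subgroup_smul]
    refine Subgroup.mem_map.2 ⟨⟨y, hy⟩, hP ▸ Subgroup.mem_zpowers _, ?_⟩
    simp [MulAut.conj_apply]
  rw [hQ, ← mem_powers_iff_mem_zpowers, Submonoid.mem_powers_iff] at h1
  obtain ⟨i, hi⟩ := h1
  exact ⟨g, g.2, i, by simpa using congrArg Subtype.val hi.symm⟩

/-! ### The class of involutions -/

/-- conjugates of three involutions fixing the point 1 -/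
def IsRoot (z : Cfsg.Spor.Suz) : Prop := ∃ x ∈ H, ∃ a < 3, z = x * el (6 + a) * x⁻¹

theorem IsRoot.conj {z g : Cfsg.Spor.Suz} (hg : g ∈ H) : IsRoot z → IsRoot (g * z * g⁻¹) := by
  rintro ⟨x, hx, a, ha, rfl⟩
  exact ⟨g * x, H.mul_mem hg hx, a, ha, by simp only [mul_inv_rev, mul_assoc]⟩

theorem root_gens_ok : ((List.range 3).all fun a => sameNet (netEl (6 + a) ++ netEl (6 + a)) [] &&
    [16, 17, 18].all fun g => (List.range 3).any fun b =>
      sameNet (netEl g ++ netEl (6 + a)) (netEl (6 + b) ++ netEl g)) = true := by decide +kernel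

theorem el_root_sq {a : ℕ} (ha : a < 3) : el (6 + a) * el (6 + a) = 1 := by
  have h := root_gens_ok
  simp only [List.all_eq_true (l := List.range 3), List.mem_range, Bool.and_eq_true] at h
  rw [← elW_two]
  exact eq_of_nets (l' := []) (by rw [elW_two, map_mul]; exact (net_el _).mul (net_el _))
    (by rw [map_one]; exact NetOf.one) (h a ha).1

theorem IsRoot.sq {z : Cfsg.Spor.Suz} : IsRoot z → z * z = 1 := by
  rintro ⟨x, hx, a, ha, rfl⟩
  calc x * el (6 + a) * x⁻¹ * (x * el (6 + a) * x⁻¹)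
      = x * (el (6 + a) * el (6 + a)) * x⁻¹ := by
        simp only [mul_assoc, inv_mul_cancel_left]
    _ = 1 := by rw [el_root_sq ha, mul_one, mul_inv_cancel]

/-- generators of the stabiliser of the point 1 -/
noncomputable def K1 : Subgroup Cfsg.Spor.Suz := Subgroup.closure (el '' {k | k ∈ [16, 17, 18]})

/-- generators of its subgroup fixing the point 2 -/
noncomputable def K2 : Subgroup Cfsg.Spor.Suz := Subgroup.closure (el '' {k | k ∈ [17, 18]})

theorem stab1_ok : ([16, 17, 18].all (fun k => sendsB (netEl k) 1 1) &&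
    [17, 18].all (fun k => sendsB (netEl k) 2 2) &&
    Nat.ble 1024 (bitCount (grow ([16, 17, 18].map netEl) (one1 2) 6) rep.N) &&
    Nat.ble 180 (bitCount (grow ([17, 18].map netEl) (one1 160) 8) rep.N)) = true := by decide +kernel

theorem K1_eq : K1 = H ⊓ St q1 := by
  have := finite_suz
  have h := stab1_ok
  simp only [Bool.and_eq_true, List.all_eq_true] at h
  obtain ⟨⟨⟨h1, h2⟩, h3⟩, h4⟩ := h
  have hle : K1 ≤ H ⊓ St q1 := by
    refine (Subgroup.closure_le _).2 ?_
    rintro _ ⟨k, hk, rfl⟩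
    refine ⟨el_mem_H ?_, sendsE (x := q1) (y := q1) (h1 k hk)⟩
    simp only [Set.mem_setOf_eq, List.mem_cons, List.not_mem_nil, or_false] at hk
    omega
  have hK2 : K2 ≤ K1 := Subgroup.closure_mono (Set.image_mono fun k hk => List.mem_cons_of_mem _ hk)
  have hK2' : K2 ≤ St ⟨2, by decide⟩ := by
    refine (Subgroup.closure_le _).2 ?_
    rintro _ ⟨k, hk, rfl⟩
    exact sendsE (x := ⟨2, by decide⟩) (y := ⟨2, by decide⟩) (h2 k hk)
  have hls : ∀ {ks : List ℕ}, ∀ l ∈ ks.map netEl,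
      ∃ g ∈ Subgroup.closure (el '' {k | k ∈ ks}), NetOf l (phi g) := by
    intro ks l hl
    obtain ⟨k, hk, rfl⟩ := List.mem_map.1 hl
    exact ⟨el k, Subgroup.subset_closure ⟨k, hk, rfl⟩, net_el k⟩
  have e1 := mul_card_le (p := ⟨2, by decide⟩) hK2 hK2' hls h3
  have e2 := mul_card_le (K := K2) (L := ⊥) (p := ⟨160, by decide⟩) bot_le bot_le hls h4
  rw [Subgroup.card_bot] at e2
  refine Subgroup.eq_of_le_of_card_ge hle ?_
  rw [card_stab_D1 D1_q1]
  omega

theorem stab1_perm {s : Cfsg.Spor.Suz} (h0 : s ∈ H) (h1 : phi s q1 = q1) :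
    ∀ a < 3, ∃ b < 3, s * el (6 + a) * s⁻¹ = el (6 + b) := by
  have hs : s ∈ K1 := K1_eq ▸ ⟨h0, h1⟩
  refine closure_pred (P := fun s => ∀ a < 3, ∃ b < 3, s * el (6 + a) * s⁻¹ = el (6 + b))
    (fun a ha => ⟨a, ha, by simp⟩) (fun x z hx hz a ha => ?_) ?_ hs
  · obtain ⟨b, hb, e⟩ := hz a ha
    obtain ⟨c, hc, e'⟩ := hx b hb
    exact ⟨c, hc, by rw [← e', ← e]; simp only [mul_inv_rev, mul_assoc]⟩
  · rintro _ ⟨g, hg, rfl⟩ a ha
    have h := root_gens_ok
    simp only [List.all_eq_true (l := List.range 3), List.mem_range, Bool.and_eq_true] at h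
    have := List.all_eq_true.1 (h a ha).2 g hg
    simp only [List.any_eq_true, List.mem_range] at this
    obtain ⟨b, hb, hs⟩ := this
    refine ⟨b, hb, mul_inv_eq_iff_eq_mul.2 ?_⟩
    exact eq_of_nets (by rw [map_mul]; exact (net_el g).mul (net_el _))
      (by rw [map_mul]; exact (net_el _).mul (net_el g)) hs

/-! ### The normaliser of the element of order 7 -/

/-- generators of the normaliser -/
noncomputable def Kn : Subgroup Cfsg.Spor.Suz := Subgroup.closure (el '' {k | k ∈ [0, 1, 2]})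

theorem el_mem_Kn {k : ℕ} (h : k ∈ [0, 1, 2]) : el k ∈ Kn := Subgroup.subset_closure ⟨k, h, rfl⟩

theorem Kn_le_H : Kn ≤ H := by
  refine (Subgroup.closure_le _).2 ?_
  rintro _ ⟨k, hk, rfl⟩
  refine el_mem_H ?_
  simp only [Set.mem_setOf_eq, List.mem_cons, List.not_mem_nil, or_false] at hk
  omega

theorem conj_pow_y {g : Cfsg.Spor.Suz} {r : ℕ} (h : g * el 0 = el 0 ^ r * g) (i : ℕ) :
    g * el 0 ^ i = el 0 ^ (r * i) * g := by
  induction i with
  | zero => simp
  | succ i ih =>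
    rw [pow_succ, ← mul_assoc, ih, mul_assoc, h, ← mul_assoc, ← pow_add]
    congr 2

theorem Kn_y {n : Cfsg.Spor.Suz} (hn : n ∈ Kn) : ∃ r : ℕ, n * el 0 = el 0 ^ r * n := by
  refine closure_pred (P := fun n => ∃ r : ℕ, n * el 0 = el 0 ^ r * n) ⟨1, by simp⟩
    (fun a b ha hb => ?_) ?_ hn
  · obtain ⟨r, hr⟩ := ha
    obtain ⟨s, hs⟩ := hb
    exact ⟨r * s, by rw [mul_assoc, hs, ← mul_assoc, conj_pow_y hr, mul_assoc]⟩
  · rintro _ ⟨k, hk, rfl⟩
    simp only [Set.mem_setOf_eq, List.mem_cons, List.not_mem_nil, or_false] at hk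
    rcases hk with rfl | rfl | rfl
    · exact ⟨1, by rw [pow_one]⟩
    · exact ⟨1, by rw [pow_one, w_y]⟩
    · exact ⟨3, h_y⟩

/-- a representative involution -/
noncomputable def cand (c : ℕ) : Cfsg.Spor.Suz := el (41 + c / 3) * (el (6 + c % 3) * (el (41 + c / 3))⁻¹)

/-- its network -/
def candNet (c : ℕ) : List Stage := netEl (41 + c / 3) ++ (netEl (6 + c % 3) ++ (netEl (41 + c / 3)).reverse)

theorem net_cand (c : ℕ) : NetOf (candNet c) (phi (cand c)) := by
  rw [cand, map_mul, map_mul, map_inv]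
  exact (net_el _).mul ((net_el _).mul (net_el _).rev)

theorem isRoot_cand (c : ℕ) : IsRoot (cand c) :=
  ⟨_, el_mem_H (by omega), c % 3, Nat.mod_lt _ (by norm_num), (mul_assoc _ _ _).symm⟩

theorem reps_ok : ((List.range 22).all (fun m => sendsB (netEl (41 + m)) 1 (nReps.getD m (0, 0)).1) &&
    Nat.beq (Nat.land ((List.range 22).foldr (fun m S =>
      Nat.lor (grow ([0, 1, 2].map netEl) (one1 (nReps.getD m (0, 0)).1) (nReps.getD m (0, 0)).2) S) 0) D1) D1 &&
    (List.range 22).all (fun m => Nat.blt (nReps.getD m (0, 0)).1 rep.N)) = true := by decide +kernel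

theorem root_cases {z : Cfsg.Spor.Suz} (hz : IsRoot z) :
    ∃ n ∈ Kn, ∃ c < 66, z = n * cand c * n⁻¹ := by
  obtain ⟨x, hx, a, ha, rfl⟩ := hz
  have h := reps_ok
  simp only [Bool.and_eq_true, List.all_eq_true, List.mem_range, Nat.blt_eq] at h
  obtain ⟨⟨hs, hcov⟩, hlt⟩ := h
  have hj : D1.testBit (phi x q1) = true := by rw [D1_inv hx]; exact D1_q1
  obtain ⟨m, hm, hb⟩ := foldr_lor_bit (fun m : ℕ =>
    grow ([0, 1, 2].map netEl) (one1 (nReps.getD m (0, 0)).1) (nReps.getD m (0, 0)).2) (sub_of_land hcov hj)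
  rw [List.mem_range] at hm
  obtain ⟨g, hg, hgp⟩ := grow_one (K := Kn) (p := ⟨_, hlt m hm⟩) (fun l hl => by
    obtain ⟨k, hk, rfl⟩ := List.mem_map.1 hl
    exact ⟨el k, el_mem_Kn hk, net_el k⟩) hb
  have ht : phi (el (41 + m)) q1 = ⟨_, hlt m hm⟩ := sendsE (hs m hm)
  obtain ⟨b, hb3, e⟩ := stab1_perm (s := (el (41 + m))⁻¹ * g⁻¹ * x)
    (H.mul_mem (H.mul_mem (H.inv_mem (el_mem_H (by omega))) (H.inv_mem (Kn_le_H hg))) hx)
    (by
      rw [map_mul, map_mul, map_inv, map_inv, Equiv.Perm.mul_apply, Equiv.Perm.mul_apply, ← hgp, ← ht,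
        Equiv.Perm.inv_def, Equiv.Perm.inv_def, Equiv.symm_apply_apply, Equiv.symm_apply_apply]) a ha
  refine ⟨g, hg, 3 * m + b, by omega, ?_⟩
  rw [cand, show (3 * m + b) / 3 = m by omega, show (3 * m + b) % 3 = b by omega, ← e]
  group

/-! ### The small involutions -/

/-- a power of the element of order 7, by network -/
def netY (i : ℕ) : List Stage := netsY.getD i []

theorem netY_ok : (List.range 7).all (fun i => netOKN (netY i) && sameNet (netPow (netEl 0) i) (netY i)) = true := by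
  decide +kernel

theorem net_Y {i : ℕ} (hi : i < 7) : NetOf (netY i) (phi (el 0 ^ i)) := by
  rw [map_pow]
  exact ((net_el 0).pow i).of_same (List.all_eq_true.1 netY_ok i (List.mem_range.2 hi))

/-- representatives of the small involutions -/
noncomputable def sBase (k : ℕ) : Cfsg.Spor.Suz :=
  elW (smallW.getD k ([], 0)).1 * cand (smallW.getD k ([], 0)).2 * (elW (smallW.getD k ([], 0)).1)⁻¹

/-- the small involutions -/
noncomputable def sm (k i : ℕ) : Cfsg.Spor.Suz := el 0 ^ i * sBase k * (el 0 ^ i)⁻¹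

/-- their networks -/
def smNet (k i : ℕ) : List Stage := netY i ++ netsE.getD k [] ++ (netY i).reverse

theorem small_ok : ((List.range 27).all fun k =>
    (smallW.getD k ([], 0)).1.all (fun x => [1, 2].contains x) &&
    (netOKN (netsE.getD k []) && sameNet (flatN (smallW.getD k ([], 0)).1 ++ candNet (smallW.getD k ([], 0)).2 ++
      (flatN (smallW.getD k ([], 0)).1).reverse) (netsE.getD k []))) = true := by decide +kernel

theorem net_sBase {k : ℕ} (hk : k < 27) : NetOf (netsE.getD k []) (phi (sBase k)) := by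
  have h := List.all_eq_true.1 small_ok k (List.mem_range.2 hk)
  rw [Bool.and_eq_true] at h
  refine NetOf.of_same ?_ h.2
  rw [sBase, map_mul, map_mul, map_inv]
  exact ((net_elW _).mul (net_cand _)).mul (net_elW _).rev

theorem net_sm {k i : ℕ} (hk : k < 27) (hi : i < 7) : NetOf (smNet k i) (phi (sm k i)) := by
  rw [sm, map_mul, map_mul, map_inv]
  exact ((net_Y hi).mul (net_sBase hk)).mul (net_Y hi).rev

theorem isRoot_sm {k : ℕ} (hk : k < 27) (i : ℕ) : IsRoot (sm k i) := by
  refine IsRoot.conj (H.pow_mem (el_mem_H (by decide)) _) (IsRoot.conj (elW_mem fun x hx => el_mem_H ?_) (isRoot_cand _))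
  have h := List.all_eq_true.1 small_ok k (List.mem_range.2 hk)
  rw [Bool.and_eq_true] at h
  have := List.contains_iff_mem.1 (List.all_eq_true.1 h.1 x hx)
  simp only [List.mem_cons, List.not_mem_nil, or_false] at this
  omega

theorem pow_y_mod (i : ℕ) : el 0 ^ (i % 7) = el 0 ^ i := by
  conv_rhs => rw [← Nat.mod_add_div i 7, pow_add, pow_mul, y_seven, one_pow, mul_one]

theorem sm_mod (k i : ℕ) : sm k (i % 7) = sm k i := by rw [sm, sm, pow_y_mod]

theorem sm_conj_y (k i j : ℕ) : el 0 ^ j * sm k i * (el 0 ^ j)⁻¹ = sm k (j + i) := by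
  rw [sm, sm, pow_add]
  simp only [mul_inv_rev, mul_assoc]

/-- a small involution -/
def Small (z : Cfsg.Spor.Suz) : Prop := ∃ k < 27, ∃ i < 7, z = sm k i

theorem small_of {k : ℕ} (hk : k < 27) (i : ℕ) : Small (sm k i) :=
  ⟨k, hk, i % 7, Nat.mod_lt _ (by norm_num), (sm_mod k i).symm⟩

theorem conjTab_ok : ((List.range 2).all fun g => (List.range 27).all fun k =>
    Nat.blt ((conjTab.getD g []).getD k (0, 0)).1 27 && Nat.blt ((conjTab.getD g []).getD k (0, 0)).2 7 &&
    sameNet (netEl (g + 1) ++ smNet k 0)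
      (smNet ((conjTab.getD g []).getD k (0, 0)).1 ((conjTab.getD g []).getD k (0, 0)).2 ++ netEl (g + 1))) = true := by
  decide +kernel

theorem small_conj {n z : Cfsg.Spor.Suz} (hn : n ∈ Kn) (hz : Small z) : Small (n * z * n⁻¹) := by
  refine closure_pred (P := fun n => ∀ z, Small z → Small (n * z * n⁻¹)) (fun z hz => by simpa using hz)
    (fun a b ha hb z hz => ?_) ?_ hn z hz
  · have := ha _ (hb z hz)
    simpa [mul_assoc] using this
  · have step : ∀ g < 2, ∀ r : ℕ, el (g + 1) * el 0 = el 0 ^ r * el (g + 1) →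
        ∀ z, Small z → Small (el (g + 1) * z * (el (g + 1))⁻¹) := by
      intro g hg r hr z hz
      obtain ⟨k, hk, i, -, rfl⟩ := hz
      have h := conjTab_ok
      simp only [List.all_eq_true (l := List.range 2), List.all_eq_true (l := List.range 27), List.mem_range,
        Bool.and_eq_true, Nat.blt_eq] at h
      obtain ⟨⟨hk', hi'⟩, hs⟩ := h g hg k hk
      set k' := ((conjTab.getD g []).getD k (0, 0)).1
      set i' := ((conjTab.getD g []).getD k (0, 0)).2
      have e : el (g + 1) * sm k 0 = sm k' i' * el (g + 1) :=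
        eq_of_nets (by rw [map_mul]; exact (net_el _).mul (net_sm hk (by norm_num)))
          (by rw [map_mul]; exact (net_sm hk' hi').mul (net_el _)) hs
      have e2 : el (g + 1) * sm k i * (el (g + 1))⁻¹ = sm k' (r * i + i') := by
        rw [← sm_conj_y k' i', show sm k i = el 0 ^ i * sm k 0 * (el 0 ^ i)⁻¹ by rw [sm_conj_y, Nat.add_zero],
          eq_mul_inv_iff_mul_eq.2 e.symm]
        calc el (g + 1) * (el 0 ^ i * sm k 0 * (el 0 ^ i)⁻¹) * (el (g + 1))⁻¹
            = el (g + 1) * el 0 ^ i * sm k 0 * (el (g + 1) * el 0 ^ i)⁻¹ := by group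
          _ = _ := by rw [conj_pow_y hr]; group
      rw [e2]
      exact small_of hk' _
    rintro _ ⟨k, hk, rfl⟩
    simp only [Set.mem_setOf_eq, List.mem_cons, List.not_mem_nil, or_false] at hk
    rcases hk with rfl | rfl | rfl
    · rintro _ ⟨k, hk, i, -, rfl⟩
      have := sm_conj_y k i 1
      rw [pow_one] at this
      rw [this]
      exact small_of hk _
    · exact step 0 (by norm_num) 1 (by rw [pow_one]; exact w_y)
    · exact step 1 (by norm_num) 3 h_y

end CfsgLib.SuzRankThree
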