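import Cfsg.Agent.Lib.OutSuz.Cent
import Cfsg.Agent.Lib.Presented.SuzG2.Iso

/-!
Stabilisers, orbits and images of point sets in the presented Suzuki group, by bit masks.
-/
set_option autoImplicit false
set_option maxRecDepth 8000

namespace CfsgLib.SuzRankThree

open CfsgLib.Presented CfsgLib.Presented.Vec CfsgLib.OutSuz
open CfsgLib.Presented.SuzCosets (phi phi_ev rep_valid ev H)
open CfsgLib.Presented.SuzCert (rep)

/-- the stabiliser of a point -/
noncomputable abbrev St (p : Fin rep.N) : Subgroup Cfsg.Spor.Suz :=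
  (MulAction.stabilizer (Equiv.Perm (Fin rep.N)) p).comap phi

theorem mem_St {g : Cfsg.Spor.Suz} {p : Fin rep.N} : g ∈ St p ↔ phi g p = p := Iff.rfl

theorem H_eq_St : H = St p0 :=
  le_antisymm (fun h hh => SuzCosets.H_fix h hh) fun _ hg => mem_H_of_fix hg

/-- the points at distance two from the base point -/
noncomputable def D1 : ℕ := Nat.xor (ones rep.N) (Nat.lor D0 1)

theorem testBit_D1 (j : Fin rep.N) : D1.testBit j = true ↔ j ≠ p0 ∧ D0.testBit j = false := by
  rw [D1, show ∀ a b : ℕ, Nat.xor a b = a ^^^ b from fun _ _ => rfl,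
    show ∀ a b : ℕ, Nat.lor a b = a ||| b from fun _ _ => rfl, Nat.testBit_xor, Nat.testBit_or, testBit_all]
  have h1 : (1 : ℕ).testBit j = decide ((j : ℕ) = 0) := testBit_one1 0 j
  rw [h1]
  cases D0.testBit j <;> simp [Fin.ext_iff]

theorem phi_p0 {g : Cfsg.Spor.Suz} (h : g ∈ H) : phi g p0 = p0 := SuzCosets.H_fix g h

theorem D1_inv {g : Cfsg.Spor.Suz} (h : g ∈ H) (x : Fin rep.N) : D1.testBit (phi g x) = D1.testBit x := by
  have h0 : phi g x = p0 ↔ x = p0 := by
    conv_lhs => rw [← phi_p0 h]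
    exact (phi g).injective.eq_iff
  rw [Bool.eq_iff_iff, testBit_D1, testBit_D1, D0_inv h, Ne, h0]

theorem trichotomy (j : Fin rep.N) : j = p0 ∨ D0.testBit j = true ∨ D1.testBit j = true := by
  rw [testBit_D1]
  cases D0.testBit j
  · rcases eq_or_ne j p0 with h | h
    · exact Or.inl h
    · exact Or.inr (Or.inr ⟨h, rfl⟩)
  · exact Or.inr (Or.inl rfl)

/-- a step of growing a set by networks -/
noncomputable def step (ls : List (List Stage)) (S : ℕ) : ℕ :=
  ls.foldr (fun l T => force T fun T => Nat.lor T (applyNet l T)) S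

/-- growing a set -/
noncomputable def grow (ls : List (List Stage)) (S : ℕ) : ℕ → ℕ
  | 0 => S
  | k + 1 => force (grow ls S k) fun T => step ls T

theorem step_spec {K : Subgroup Cfsg.Spor.Suz} {T : ℕ} : ∀ {ls : List (List Stage)},
    (∀ l ∈ ls, ∃ g ∈ K, NetOf l (phi g)) → ∀ {j : Fin rep.N}, (step ls T).testBit j = true →
      ∃ g ∈ K, T.testBit (phi g j) = true
  | [], _, j, hb => ⟨1, K.one_mem, by rw [map_one]; exact hb⟩
  | l :: ls, h, j, hb => by
    obtain ⟨g, hg, hn⟩ := h l List.mem_cons_self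
    have ih := @step_spec K T ls fun m hm => h m (List.mem_cons_of_mem _ hm)
    rw [step, List.foldr_cons, force_eq, show ∀ a b : ℕ, Nat.lor a b = a ||| b from fun _ _ => rfl,
      Nat.testBit_or, Bool.or_eq_true, hn.bit] at hb
    rcases hb with hb | hb
    · exact ih hb
    · obtain ⟨g', hg', hb'⟩ := ih hb
      exact ⟨g' * g, K.mul_mem hg' hg, by rw [map_mul, Equiv.Perm.mul_apply]; exact hb'⟩

theorem grow_spec {K : Subgroup Cfsg.Spor.Suz} {ls : List (List Stage)}
    (h : ∀ l ∈ ls, ∃ g ∈ K, NetOf l (phi g)) {S : ℕ} : ∀ {k : ℕ} {j : Fin rep.N},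
    (grow ls S k).testBit j = true → ∃ g ∈ K, S.testBit (phi g j) = true
  | 0, j, hb => ⟨1, K.one_mem, by rw [map_one]; exact hb⟩
  | k + 1, j, hb => by
    rw [grow, force_eq] at hb
    obtain ⟨g, hg, hb⟩ := step_spec h hb
    obtain ⟨g', hg', hb'⟩ := grow_spec h hb
    exact ⟨g' * g, K.mul_mem hg' hg, by rw [map_mul, Equiv.Perm.mul_apply]; exact hb'⟩

theorem grow_one {K : Subgroup Cfsg.Spor.Suz} {ls : List (List Stage)}
    (h : ∀ l ∈ ls, ∃ g ∈ K, NetOf l (phi g)) {p : Fin rep.N} {k : ℕ} {j : Fin rep.N}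
    (hb : (grow ls (one1 p) k).testBit j = true) : ∃ g ∈ K, phi g p = j := by
  obtain ⟨g, hg, hb⟩ := grow_spec h hb
  rw [testBit_one1, decide_eq_true_eq] at hb
  refine ⟨g⁻¹, K.inv_mem hg, ?_⟩
  rw [map_inv]
  exact (Equiv.symm_apply_eq _).2 (Fin.ext hb).symm

/-- the orbit as a finset -/
noncomputable def orbitF (K : Subgroup Cfsg.Spor.Suz) (p : Fin rep.N) : Finset (Fin rep.N) := by
  classical exact Finset.univ.filter fun j => ∃ g ∈ K, phi g p = j

theorem mem_orbitF {K : Subgroup Cfsg.Spor.Suz} {p j : Fin rep.N} :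
    j ∈ orbitF K p ↔ ∃ g ∈ K, phi g p = j := by
  classical simp [orbitF]

theorem card_eq_orbit (K : Subgroup Cfsg.Spor.Suz) (p : Fin rep.N) :
    Nat.card K = (orbitF K p).card * Nat.card (K ⊓ St p : Subgroup Cfsg.Spor.Suz) := by
  let _ : MulAction K (Fin rep.N) := MulAction.compHom _ (phi.comp K.subtype)
  have ho : Nat.card (MulAction.orbit K p) = (orbitF K p).card := by
    rw [← Nat.card_eq_finsetCard]
    refine Nat.card_congr (Equiv.subtypeEquivRight fun j => ?_)
    rw [mem_orbitF]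
    exact ⟨fun ⟨g, e⟩ => ⟨g.1, g.2, e⟩, fun ⟨g, hg, e⟩ => ⟨⟨g, hg⟩, e⟩⟩
  have hs : Nat.card (MulAction.stabilizer K p) = Nat.card (K ⊓ St p : Subgroup Cfsg.Spor.Suz) :=
    Nat.card_congr ⟨fun g => ⟨g.1.1, g.1.2, g.2⟩, fun g => ⟨⟨g.1, g.2.1⟩, g.2.2⟩, fun _ => rfl, fun _ => rfl⟩
  rw [(MulAction.stabilizer K p).card_eq_card_quotient_mul_card_subgroup, ← hs, ← ho,
    Nat.card_congr (MulAction.orbitEquivQuotientStabilizer K p)]

/-- the points of a mask -/
def pts (M : ℕ) : Finset (Fin rep.N) := Finset.univ.filter fun j => M.testBit j = true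

theorem card_pts (M : ℕ) : (pts M).card = bitCount M rep.N := by
  rw [bitCount_eq]
  refine Finset.card_bij (fun j _ => (j : ℕ)) ?_ (fun a _ b _ e => Fin.ext e) ?_
  · intro j hj
    simp only [pts, Finset.mem_filter, Finset.mem_univ, true_and] at hj
    simp [hj]
  · intro i hi
    simp only [Finset.mem_filter, Finset.mem_range] at hi
    exact ⟨⟨i, hi.1⟩, by simp [pts, hi.2], rfl⟩

theorem bitCount_le_orbit {K : Subgroup Cfsg.Spor.Suz} {p : Fin rep.N} {M : ℕ}
    (h : ∀ j : Fin rep.N, M.testBit j = true → ∃ g ∈ K, phi g p = j) :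
    bitCount M rep.N ≤ (orbitF K p).card := by
  rw [← card_pts]
  refine Finset.card_le_card fun j hj => mem_orbitF.2 (h j ?_)
  simpa [pts] using hj

theorem card_of_orbit {K : Subgroup Cfsg.Spor.Suz} {p : Fin rep.N} {M n : ℕ}
    (hinv : ∀ g ∈ K, M.testBit (phi g p) = true)
    (h : ∀ j : Fin rep.N, M.testBit j = true → ∃ g ∈ K, phi g p = j) (hn : bitCount M rep.N = n) :
    Nat.card K = n * Nat.card (K ⊓ St p : Subgroup Cfsg.Spor.Suz) := by
  refine (card_eq_orbit K p).trans (congrArg (· * Nat.card (K ⊓ St p : Subgroup Cfsg.Spor.Suz)) ?_)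
  refine (le_antisymm ?_ (bitCount_le_orbit h)).trans hn
  refine le_of_le_of_eq ?_ (card_pts M)
  refine Finset.card_le_card fun j hj => ?_
  obtain ⟨g, hg, rfl⟩ := mem_orbitF.1 hj
  simpa [pts] using hinv g hg

theorem mul_card_le {K L : Subgroup Cfsg.Spor.Suz} {p : Fin rep.N} (hLK : L ≤ K) (hL : L ≤ St p)
    {ls : List (List Stage)} (hls : ∀ l ∈ ls, ∃ g ∈ K, NetOf l (phi g)) {k n : ℕ}
    (hn : Nat.ble n (bitCount (grow ls (one1 p) k) rep.N) = true) : n * Nat.card L ≤ Nat.card K := by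
  have : Finite Cfsg.Spor.Suz := Nat.finite_of_card_ne_zero (by rw [SuzOrder.card_eq]; norm_num)
  rw [card_eq_orbit K p]
  refine Nat.mul_le_mul ((Nat.ble_eq.mp hn).trans (bitCount_le_orbit fun j hj => grow_one hls hj)) ?_
  exact Subgroup.card_le_of_le (le_inf hLK hL)

/-- the images of a set, each from an earlier one by a letter -/
noncomputable def imgs : List (ℕ × ℕ) → List ℕ → List ℕ
  | [], L => L
  | (b, x) :: ps, L =>
    force (Nat.land (applyNet (rep.net x) (L.getD b 0)) (ones rep.N)) fun M => imgs ps (M :: L)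

/-- the list has no repetition -/
noncomputable def distinctB : List ℕ → Bool
  | [] => true
  | a :: l => l.all (fun b => !(Nat.beq a b)) && distinctB l

theorem distinctB_spec : ∀ {l : List ℕ}, distinctB l = true → l.Nodup
  | [], _ => List.nodup_nil
  | a :: l, h => by
    simp only [distinctB, Bool.and_eq_true, List.all_eq_true] at h
    refine List.nodup_cons.2 ⟨fun ha => ?_, distinctB_spec h.2⟩
    have := h.1 a ha
    rw [Nat.beq_refl] at this
    exact absurd this (by decide)

/-- a translate of `S` by an element of `H` -/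
def IsImg (S M : ℕ) : Prop :=
  (∀ i, rep.N ≤ i → M.testBit i = false) ∧
    ∃ h ∈ H, ∀ j : Fin rep.N, M.testBit j = S.testBit (phi h j)

theorem testBit_land_ones (v i : ℕ) :
    (Nat.land v (ones rep.N)).testBit i = (v.testBit i && decide (i < rep.N)) := by
  rw [show ∀ a b : ℕ, Nat.land a b = a &&& b from fun _ _ => rfl, Nat.testBit_and, testBit_ones]

theorem letter_mem_H {x : ℕ} (hx : x < 6) : ev x ∈ H := by
  have h : evW ev [x] ∈ H := by
    refine SuzCosets.mem_H ?_
    interval_cases x <;> decide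
  rwa [evW_cons, evW_nil, mul_one] at h

/-- the references are to earlier images, by letters fixing the base point -/
def imgsOK : List (ℕ × ℕ) → ℕ → Bool
  | [], _ => true
  | (b, x) :: ps, n => Nat.blt b n && Nat.blt x 6 && imgsOK ps (n + 1)

theorem imgs_spec {S : ℕ} : ∀ {ps : List (ℕ × ℕ)} {L : List ℕ},
    imgsOK ps L.length = true → (∀ M ∈ L, IsImg S M) → ∀ M ∈ imgs ps L, IsImg S M
  | [], _, _, hL => hL
  | (b, x) :: ps, L, hps, hL => by
    simp only [imgsOK, Bool.and_eq_true, Nat.blt_eq] at hps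
    rw [imgs, force_eq]
    refine imgs_spec hps.2 fun M hM => ?_
    rcases List.mem_cons.1 hM with rfl | hM
    · rw [List.getD_eq_getElem _ _ hps.1.1]
      obtain ⟨hhi, h, hh, hb⟩ := hL _ (List.getElem_mem hps.1.1)
      refine ⟨fun i hi => by rw [testBit_land_ones, decide_eq_false (not_lt.2 hi), Bool.and_false],
        h * ev x, H.mul_mem hh (letter_mem_H hps.1.2), fun j => ?_⟩
      rw [testBit_land_ones, decide_eq_true j.2, Bool.and_true,
        (net_letter (Nat.lt_succ_of_lt hps.1.2)).bit, hb, map_mul, Equiv.Perm.mul_apply]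
    · exact hL M hM

/-- A subgroup of `H` keeping a set with more than 416 images is small. -/
theorem card_lt_of_imgs {K : Subgroup Cfsg.Spor.Suz} (hK : K ≤ H) {S : ℕ} {ps : List (ℕ × ℕ)}
    (hS : ∀ g ∈ K, ∀ j : Fin rep.N, S.testBit (phi g j) = S.testBit j)
    (h : (imgsOK ps 1 && distinctB (imgs ps [Nat.land S (ones rep.N)]) &&
      Nat.ble 417 (imgs ps [Nat.land S (ones rep.N)]).length) = true) : Nat.card K < 604800 := by
  simp only [Bool.and_eq_true] at h
  obtain ⟨⟨hok, hd⟩, hlen⟩ := h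
  have hlen : 417 ≤ _ := Nat.ble_eq.mp hlen
  generalize hl : imgs ps [Nat.land S (ones rep.N)] = l at hd hlen
  have hspec : ∀ M ∈ l, IsImg S M := by
    rw [← hl]
    refine imgs_spec hok fun M hM => ?_
    rw [List.mem_singleton] at hM
    subst hM
    refine ⟨fun i hi => by rw [testBit_land_ones, decide_eq_false (not_lt.2 hi), Bool.and_false], 1,
      H.one_mem, fun j => ?_⟩
    rw [testBit_land_ones, decide_eq_true j.2, Bool.and_true, map_one]
    rfl
  choose hhi h hh hbit using hspec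
  have : Finite Cfsg.Spor.Suz := Nat.finite_of_card_ne_zero (by rw [SuzOrder.card_eq]; norm_num)
  let f : {M // M ∈ l.toFinset} → H ⧸ K.subgroupOf H := fun M =>
    ((⟨h M.1 (List.mem_toFinset.1 M.2), hh _ _⟩⁻¹ : H) : H ⧸ K.subgroupOf H)
  have hf : Function.Injective f := by
    intro M M' e
    apply Subtype.ext
    have e' := QuotientGroup.eq.1 e
    rw [inv_inv, Subgroup.mem_subgroupOf] at e'
    refine Nat.eq_of_testBit_eq fun i => ?_
    rcases lt_or_ge i rep.N with hi | hi
    · have b1 := hbit M.1 (List.mem_toFinset.1 M.2) ⟨i, hi⟩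
      have b2 := hbit M'.1 (List.mem_toFinset.1 M'.2) ⟨i, hi⟩
      simp only at b1 b2
      rw [b1, b2]
      have := hS _ e' (phi (h M'.1 (List.mem_toFinset.1 M'.2)) ⟨i, hi⟩)
      rw [Subgroup.coe_mul, Subgroup.coe_inv, map_mul, Equiv.Perm.mul_apply, map_inv,
        ← Equiv.Perm.mul_apply _⁻¹, inv_mul_cancel, Equiv.Perm.one_apply] at this
      exact this
    · rw [hhi _ (List.mem_toFinset.1 M.2) i hi, hhi _ (List.mem_toFinset.1 M'.2) i hi]
  have h1 := Nat.card_le_card_of_injective f hf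
  rw [Nat.card_eq_finsetCard, List.toFinset_card_of_nodup (distinctB_spec hd)] at h1
  have h2 := (K.subgroupOf H).card_mul_index
  rw [SuzG2.card_H, Nat.card_congr (Subgroup.subgroupOfEquivOfLe hK).toEquiv] at h2
  have h3 : 417 ≤ (K.subgroupOf H).index := hlen.trans h1
  have h4 := Nat.mul_le_mul_left (Nat.card K) h3
  omega

end CfsgLib.SuzRankThree
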